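import Cfsg.Agent.BG.Base1
/-! The Baer–Suzuki theorem (Alperin–Lyons proof). -/
set_option autoImplicit false
namespace Cfsg.Agent.H9
open Subgroup Cfsg.Agent.BG

variable {G : Type*} [Group G] [Finite G]

theorem nil_lt_norm {H K : Subgroup G} (hH : Nil H) (h : K < H) : K < H ⊓ N[K] := by
  have h1 : K.subgroupOf H < ⊤ := lt_top_iff_ne_top.2 fun e => h.not_ge (subgroupOf_eq_top.1 e)
  have h2 := normalizerCondition_of_isNilpotent (G := H) _ h1
  rw [← subgroupOf_normalizer_eq h.le] at h2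
  refine lt_of_le_of_ne (le_inf h.le (normG K)) fun e => h2.not_ge fun x hx => ?_
  rw [mem_subgroupOf] at hx ⊢
  rw [e]; exact ⟨x.2, hx⟩

theorem baer_aux {S C : Set G} (hC : ∀ g, ∀ c ∈ C, g * c * g⁻¹ ∈ C) {P : Subgroup G} (hP : Nil P)
    (hS : S ⊆ C) (hSP : closure S ≤ P) (hDS : ∀ c ∈ C, c ∈ closure S → c ∈ S) {y : G} (hy : y ∈ P)
    (hyC : y ∈ C) (hyS : y ∉ S) : ∃ z ∈ P, z ∈ C ∧ z ∉ S ∧ z ∈ N[closure S] := by
  obtain ⟨H, h1, ⟨h2, h3⟩, h4⟩ := exists_maximal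
    (P := fun H : Subgroup G => H ≤ P ∧ ∀ c ∈ C, c ∈ H → c ∈ S) (A := closure S) ⟨hSP, hDS⟩
  have hlt : H < P := lt_of_le_of_ne h2 fun e => hyS (h3 y hyC (e ▸ hy))
  have h5 := nil_lt_norm hP hlt
  by_contra hc
  push Not at hc
  refine h5.ne (h4 _ ⟨inf_le_left, fun c hcC hcH => ?_⟩ h5.le).symm
  by_contra hcS
  refine hc c hcH.1 hcC hcS (normalizer_le_normalizer_closure S (mem_normalizer_fintype ?_))
  intro s hs
  exact h3 _ (hC _ _ (hS hs)) (conj_mem hcH.2 (h1 (subset_closure hs)))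

/-- Baer–Suzuki for a conjugation-invariant set `C` any two of whose members generate a `p`-group -/
theorem baer_suzuki_set {p : ℕ} [Fact p.Prime] {C : Set G} (hC : ∀ g, ∀ c ∈ C, g * c * g⁻¹ ∈ C)
    (h : ∀ y ∈ C, ∀ z ∈ C, IsPGroup p (closure {y, z})) : IsPGroup p (closure C) := by
  have key : ∀ P Q : Sylow p G, C ∩ P = C ∩ Q := by
    by_contra hc
    push Not at hc
    obtain ⟨P0, Q0, hPQ0⟩ := hc
    obtain ⟨⟨P, Q⟩, hPQ, hmax⟩ := Set.Finite.exists_maximalFor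
      (fun x : Sylow p G × Sylow p G => (C ∩ x.1 ∩ x.2).ncard) {x | C ∩ x.1 ≠ C ∩ x.2}
      (Set.toFinite _) ⟨(P0, Q0), hPQ0⟩
    simp only [Set.mem_setOf_eq] at hPQ hmax
    have hcard : ∀ P Q : Sylow p G, (C ∩ P).ncard ≤ (C ∩ Q).ncard := by
      intro P Q
      obtain ⟨g, rfl⟩ := MulAction.exists_smul_eq G P Q
      refine Set.ncard_le_ncard_of_injOn (fun x => g * x * g⁻¹) ?_ ?_
      · rintro x ⟨hx, hxP⟩
        refine ⟨hC _ _ hx, ?_⟩
        rw [Sylow.coe_smul]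
        exact ⟨x, hxP, rfl⟩
      · intro x _ y _ e; simpa using e
    have hns : ∀ P Q : Sylow p G, C ∩ P ≠ C ∩ Q → ∃ y ∈ (P : Subgroup G), y ∈ C ∧ y ∉ (Q : Subgroup G) := by
      intro P Q hne
      by_contra hc
      push Not at hc
      exact hne (Set.eq_of_subset_of_ncard_le (fun x hx => ⟨hx.1, hc x hx.2 hx.1⟩) (hcard Q P))
    set S := C ∩ P ∩ Q with hSdef
    have hSP : closure S ≤ P := (closure_le _).2 fun x hx => hx.1.2
    have hSQ : closure S ≤ Q := (closure_le _).2 fun x hx => hx.2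
    have hDS : ∀ c ∈ C, c ∈ closure S → c ∈ S := fun c hc h => ⟨⟨hc, hSP h⟩, hSQ h⟩
    have hS : S ⊆ C := fun x hx => hx.1.1
    obtain ⟨y0, hy0, hy0C, hy0Q⟩ := hns P Q hPQ
    obtain ⟨z0, hz0, hz0C, hz0P⟩ := hns Q P hPQ.symm
    obtain ⟨y, hyP, hyC, hyS, hyN⟩ := baer_aux hC P.isPGroup'.isNilpotent hS hSP hDS hy0 hy0C
      fun h => hy0Q h.2
    obtain ⟨z, hzQ, hzC, hzS, hzN⟩ := baer_aux hC Q.isPGroup'.isNilpotent hS hSQ hDS hz0 hz0C
      fun h => hz0P h.1.2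
    have hp1 : IsPGroup p ↥(closure {y, z} ⊔ closure S) :=
      (h y hyC z hzC).to_sup_of_normal_right' (P.isPGroup'.to_le hSP)
        ((closure_le _).2 (by rintro _ (rfl | rfl) <;> assumption))
    obtain ⟨R, hR⟩ := hp1.exists_le_sylow
    have hyR : y ∈ R := hR (mem_sup_left (subset_closure (by simp)))
    have hzR : z ∈ R := hR (mem_sup_left (subset_closure (by simp)))
    have hne : C ∩ P ≠ C ∩ R := fun e => hzS ⟨by rw [e]; exact ⟨hzC, hzR⟩, hzQ⟩
    have hlt : S.ncard < (C ∩ P ∩ R).ncard := by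
      refine Set.ncard_lt_ncard ⟨fun x hx => ⟨hx.1, hR (mem_sup_right (subset_closure hx))⟩, ?_⟩
      exact fun hh => hyS (hh ⟨⟨hyC, hyP⟩, hyR⟩)
    exact hlt.not_ge (hmax (j := (P, R)) hne hlt.le)
  obtain ⟨P⟩ : Nonempty (Sylow p G) := inferInstance
  refine P.isPGroup'.to_le ((closure_le _).2 fun c hc => ?_)
  obtain ⟨R, hR⟩ := (h c hc c hc).exists_le_sylow
  have : c ∈ C ∩ R := ⟨hc, hR (subset_closure (by simp))⟩
  rw [key R P] at this
  exact this.2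

/-- element form -/
theorem baer_suzuki {p : ℕ} [Fact p.Prime] {x : G}
    (h : ∀ g : G, IsPGroup p (closure {x, g * x * g⁻¹})) : IsPGroup p (normalClosure {x}) := by
  refine baer_suzuki_set (C := Group.conjugatesOfSet {x}) (fun g c hc => Group.conj_mem_conjugatesOfSet hc) ?_
  intro y hy z hz
  simp only [Group.mem_conjugatesOfSet_iff, Set.mem_singleton_iff, exists_eq_left, isConj_iff] at hy hz
  obtain ⟨a, rfl⟩ := hy
  obtain ⟨b, rfl⟩ := hz
  have := (h (a⁻¹ * b)).map (MulAut.conj a).toMonoidHom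
  rw [MonoidHom.map_closure, Set.image_pair] at this
  convert this using 4 <;> simp [mul_assoc]

end Cfsg.Agent.H9
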