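import Cfsg.Agent.Inv.BR2
import Cfsg.Agent.Class.Dick5

set_option autoImplicit false

namespace Cfsg.Agent.H9
open Matrix
open scoped MatrixGroups

universe u v

theorem psl_transfer {F : Type u} {K : Type v} [Field F] [Fintype F] [Field K] [Fintype K]
    (h : Fintype.card F = Fintype.card K) : Nonempty (PSL(2, F) ≃* PSL(2, K)) := by
  obtain ⟨p, hp⟩ := CharP.exists F
  exact ⟨Class.pslCongr (FiniteField.ringEquivOfCardEq h)⟩

theorem not_cyclic_of_not_prime {G : Type*} [Group G] [IsSimpleGroup G]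
    (h : ¬ (Nat.card G).Prime) : ¬ IsCyclic G := fun hc => by
  have := hc
  exact Inv.not_comm_of_simple h inferInstance

/-- Brauer–Reynolds with the orders. -/
theorem big_prime {G : Type*} [Group G] [Finite G] [IsSimpleGroup G] (hG : ¬ (Nat.card G).Prime)
    (p : ℕ) (hp : p.Prime) (hdvd : p ∣ Nat.card G) (hbig : Nat.card G < p ^ 3) :
    (2 * Nat.card G = p * (p ^ 2 - 1) ∧ ∀ (F : Type v) [Field F] [Fintype F], Fintype.card F = p →
      Nonempty (G ≃* PSL(2, F))) ∨
    (Nat.card G = (p - 1) * ((p - 1) ^ 2 - 1) ∧ ∀ (F : Type v) [Field F] [Fintype F],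
      Fintype.card F = p - 1 → Nonempty (G ≃* PSL(2, F))) := by
  rcases Inv.s0999 (not_cyclic_of_not_prime hG) p hp hdvd hbig with
    ⟨K, _, _, hK, h3, ⟨e⟩⟩ | ⟨m, K, _, _, hK, hm, h3, ⟨e⟩⟩
  · left
    have h := Class.card_PSL2 (F := K)
    rw [hK] at h
    have h2 : Nat.gcd 2 (p - 1) = 2 := by
      apply Nat.gcd_eq_left
      have := hp.eq_two_or_odd
      omega
    refine ⟨by rw [Nat.card_congr e.toEquiv, ← h, h2], fun F _ _ hF => ?_⟩
    obtain ⟨f⟩ := psl_transfer (F := K) (K := F) (by rw [hK, hF])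
    exact ⟨e.trans f⟩
  · right
    have h := Class.card_PSL2 (F := K)
    have hK' : Fintype.card K = p - 1 := by omega
    rw [hK'] at h
    have h2 : Nat.gcd 2 (p - 1 - 1) = 1 := by
      have := hp.eq_two_or_odd
      have h4 : Odd (p - 1 - 1) := ⟨(p - 3) / 2, by omega⟩
      exact Nat.coprime_two_left.2 h4
    refine ⟨by rw [Nat.card_congr e.toEquiv, ← h, h2, one_mul], fun F _ _ hF => ?_⟩
    obtain ⟨f⟩ := psl_transfer (F := K) (K := F) (by rw [hK', hF])
    exact ⟨e.trans f⟩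

theorem big_prime_card {G : Type*} [Group G] [Finite G] [IsSimpleGroup G]
    (hG : ¬ (Nat.card G).Prime)
    (p : ℕ) (hp : p.Prime) (hdvd : p ∣ Nat.card G) (hbig : Nat.card G < p ^ 3) :
    2 * Nat.card G = p * (p ^ 2 - 1) ∨ Nat.card G = (p - 1) * ((p - 1) ^ 2 - 1) :=
  (big_prime.{0} hG p hp hdvd hbig).imp And.left And.left

end Cfsg.Agent.H9
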