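import Cfsg.Agent.H9.Sm6
import Cfsg.Agent.H9.Sm1

/-! The simple groups of order `360` and `504`. -/

set_option autoImplicit false
set_option linter.unusedVariables false
set_option linter.unusedSectionVars false

namespace Cfsg.Agent.H9

open Finset Subgroup Cfsg.Agent.PLoc Cfsg.Agent.Char Cfsg.Agent.Blk Cfsg.Agent.Inv
open scoped MatrixGroups

universe u

variable {G : Type u} [Group G] [Finite G]

theorem tree_two [IsSimpleGroup G] (hG : ¬ IsMulCommutative G) (hn : Nat.card G < 6400) {p : ℕ}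
    [hp : Fact p.Prime] {x : G} (h : Syl1 p x) {a : ℤ}
    (ht : ∀ T ∈ trees (Nat.card G) p, T.2.2.2 = [a]) : ∃ (χ μ : IrrCharacter G) (δ ε : ℤ),
      (δ = 1 ∨ δ = -1) ∧ (ε = 1 ∨ ε = -1) ∧ δ * charDegree (χ : G → ℂ) = a ∧
      ε * charDegree (μ : G → ℂ) = 1 + a ∧
      (∀ i : ZMod p, i ≠ 0 → (χ : G → ℂ) (pw x i) = δ) ∧
      ∀ g, ¬ p ∣ orderOf g → 1 + δ * (χ : G → ℂ) g = ε * (μ : G → ℂ) g := by
  classical
  obtain ⟨M, hM⟩ := exists_isPModular p hp.out
  have : PMod p M := ⟨hM⟩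
  obtain ⟨N, δ, ε, μ, D⟩ := h.exists_D1 (M := M)
  obtain ⟨L, h1, h2, hL⟩ := tree_mem hG hn D
  obtain rfl : L = [a] := ht _ hL
  obtain ⟨χ, h3, h4⟩ := Multiset.map_eq_singleton.1 h1.symm
  have h5 : N.erase (irrOne G) = {χ} := Finset.val_injective h3
  have h6 : χ ∈ N := mem_of_mem_erase (h5 ▸ mem_singleton_self χ)
  refine ⟨χ, μ 1, δ χ, ε, D.δ_val χ h6, D.ε_val, h4, by simpa using h2.symm, D.apply_N χ h6,
    fun g hg => ?_⟩
  rw [← D.reg g hg 1, ← add_sum_erase _ _ D.one_mem, h5, sum_singleton, D.δ_one]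
  simp

theorem defect_zero {χ : IrrCharacter G} {p d r : ℕ} (hp : p.Prime)
    (hd : charDegree (χ : G → ℂ) = d) (hr : d * r = Nat.card G) (hpr : ¬ p ∣ r) {g : G}
    (hg : p ∣ orderOf g) : (χ : G → ℂ) g = 0 :=
  χ.2.eq_zero_of_defect_zero hp (hd ▸ irr_one_eq χ) hr hpr hg

theorem not_dvd_cent {p q : ℕ} (hq : q.Prime) (h : ∀ g : G, p ∣ orderOf g → ¬ q ∣ orderOf g)
    {t : G} (ht : p ∣ orderOf t) : ¬ q ∣ Nat.card (centralizer ({t} : Set G)) := fun e => by
  obtain ⟨y, hy, ho⟩ := exists_mem_orderOf_eq_prime hq e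
  have h1 : orderOf (t * y) = orderOf t * q := ho ▸
    Commute.orderOf_mul_eq_mul_orderOf_of_coprime (mem_centralizer_singleton_iff.1 hy).symm
      (ho ▸ (hq.coprime_iff_not_dvd.2 (h t ht)).symm)
  exact h _ (h1 ▸ ht.mul_right q) (h1 ▸ dvd_mul_left _ _)

theorem psl_of_TI [IsSimpleGroup G] {p : ℕ} [hp : Fact p.Prime] (P : Sylow p G)
    (hc : ∀ u ∈ (P : Subgroup G), u ≠ 1 → centralizer {u} = (P : Subgroup G))
    (h1 : (normalizer ((P : Subgroup G) : Set G)).index = Nat.card P + 1) (h2 : 2 ≤ Nat.card P)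
    (h3 : Nat.card (normalizer ((P : Subgroup G) : Set G)) ≠ (Nat.card P - 1) * Nat.card P) :
    ∃ (F : Type) (_ : Field F) (_ : Fintype F), Fintype.card F = Nat.card P ∧
      Nonempty (G ≃* PSL(2, F)) := by
  set N := normalizer ((P : Subgroup G) : Set G) with hN
  have so : ∀ g : G, g • ((1 : G) : G ⧸ N) = (1 : G) ↔ g ∈ N := fun g =>
    MulAction.mem_stabilizer_iff.symm.trans (by rw [MulAction.stabilizer_quotient])
  obtain ⟨Z, hK⟩ := z0_of_ker ((1 : G) : G ⧸ N) (P : Subgroup G)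
    (fun u hu => (so u).2 (le_normalizer hu))
    (fun g hg u hu => conj_mem_of_mem_normalizer ((so g).1 hg) hu) (fun u hu c hc' e => by
      obtain ⟨g, rfl⟩ := QuotientGroup.mk_surjective c
      by_contra u1
      rw [MulAction.Quotient.smul_mk, eq_comm, QuotientGroup.eq, smul_eq_mul] at e
      obtain ⟨k, hk⟩ := P.2 ⟨u, hu⟩
      have h4 : g⁻¹ * u * g⁻¹⁻¹ ∈ (P : Subgroup G) := (isSylowOf_top P).le_of_le_normalizer
        (isPGroup_zpowers (k := k) (by
          rw [conj_pow, show u ^ p ^ k = 1 from congrArg Subtype.val hk]; simp)) le_top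
        (zpowers_le.2 (by rwa [inv_inv, mul_assoc])) (mem_zpowers _)
      have h5 := cj_cent1 g⁻¹ u
      rw [hc u hu u1, hc _ h4 (by simpa [mul_assoc, inv_mul_eq_iff_eq_mul] using u1)] at h5
      exact hc' (QuotientGroup.eq.2 (by rw [mul_one]; exact cj_eq_self_iff.1 h5)))
    (by rw [← index_eq_card, h1])
    (fun u hu u1 g e => hc u hu u1 ▸ mem_centralizer_singleton_iff.2 e) h2
  obtain ⟨b, hb⟩ := Z.exists_ne ((1 : G) : G ⧸ N)
  have h4 := Z.card_stab hb.symm
  rw [MulAction.stabilizer_quotient, hK] at h4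
  obtain ⟨x, hx, x1⟩ := exists_ne_one (H := (P : Subgroup G)) fun e => by
    rw [e, card_bot] at h2; omega
  rcases Z.zas_or_regN hb.symm with hZ | ⟨K, R⟩
  · rcases zas_comm hZ hb.symm (hK ▸ isMulCommutative_of_forall fun a ha b hb => by
      by_cases a1 : a = 1
      · simp [a1]
      · exact (mem_centralizer_singleton_iff.1 ((hc a ha a1).symm ▸ hb)).symm) with e | ⟨-, e⟩
    · rw [hK] at e
      exact absurd (by rw [h4, ← e]; rfl) h3
    · rwa [hK] at e
  · rcases R.normal.eq_bot_or_eq_top with rfl | rfl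
    · obtain ⟨g, h3, h4⟩ := R.tr ((1 : G) : G ⧸ N) b
      exact absurd (by rw [← h4, mem_bot.1 h3, one_smul]) hb
    · exact absurd (R.free x trivial _ ((so x).2 (le_normalizer hx))) x1

theorem psl_360 [IsSimpleGroup G] (h : Nat.card G = 360) :
    ∃ (F : Type) (_ : Field F) (_ : Fintype F), Fintype.card F = 9 ∧
      Nonempty (G ≃* PSL(2, F)) := by
  have hG : ¬ IsMulCommutative G := not_comm_of_simple (by rw [h]; norm_num)
  have : Fact (Nat.Prime 5) := ⟨by norm_num⟩
  have : Fact (Nat.Prime 3) := ⟨by norm_num⟩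
  have h5 : ∀ x : G, orderOf x = 5 → SC 5 x := fun x hx =>
    (sc_of_trees (e := 2) (m := 36) hG (by omega) (syl1_of_ord hx (by rw [h]; norm_num))
      (by rw [h]; decide +kernel)).1
  obtain ⟨x, hx⟩ := exists_syl1 (G := G) (p := 5) (by rw [h]; norm_num) (by rw [h]; norm_num)
  obtain ⟨χ, μ, δ, ε, a1, a2, a3, a4, -, a5⟩ := tree_two (a := -9) hG (by omega) hx
    (by rw [h]; decide +kernel)
  have b1 : ∀ g : G, 3 ∣ orderOf g → ¬ 5 ∣ orderOf g := fun g e e' => by
    rw [ord_eq_of_sc h5 e'] at e; omega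
  have b2 : ∀ g : G, 3 ∣ orderOf g → ¬ 2 ∣ orderOf g := fun g e e' => by
    have := a5 g (b1 g e)
    rw [defect_zero (d := 9) (r := 40) Nat.prime_three (by rcases a1 with rfl | rfl <;> omega)
      h.symm (by norm_num) e, defect_zero (d := 8) (r := 45) Nat.prime_two
      (by rcases a2 with rfl | rfl <;> omega) h.symm (by norm_num) e'] at this
    simp at this
  obtain ⟨P⟩ : Nonempty (Sylow 3 G) := inferInstance
  have hP : Nat.card P = 9 := card_sylow_of_card P (k := 2) (m := 40) h (by norm_num)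
  have hc := isMulCommutative_of_card_sq (p := 3) hP
  have c1 := normalizer_sylow_ne_top hG (by rw [h]; norm_num) P
  have c2 := not_norm_le_cent hG (by rw [h]; norm_num) P
  have c3 := two_mul_card_dvd_factorial hG _ c1
  have c4 := card_sylow_modEq_one 3 G
  have c5 := (normalizer ((P : Subgroup G) : Set G)).index_mul_card
  have c6 := card_dvd_of_le (le_normalizer (H := (P : Subgroup G)))
  have c7 : Nat.card (normalizer ((P : Subgroup G) : Set G)) ≠ 9 := fun e => c2 (by
    rw [← eq_of_le_of_card_ge (le_normalizer (H := (P : Subgroup G))) (by rw [e, hP])]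
    exact le_centralizer_iff_isMulCommutative.2 hc)
  rw [P.card_eq_index_normalizer] at c4
  have c8 : (normalizer ((P : Subgroup G) : Set G)).index = 10 := by
    rw [hP] at c6
    obtain ⟨k, hk⟩ := c6
    rw [hk, h] at c5
    rw [hk] at c7
    rw [h] at c3
    change (normalizer ((P : Subgroup G) : Set G)).index % 3 = 1 at c4
    generalize (normalizer ((P : Subgroup G) : Set G)).index = m at *
    have : m ∣ 40 := Dvd.intro k (by linarith)
    have := Nat.le_of_dvd (by norm_num) this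
    interval_cases m <;> first | omega | exact absurd c3 (by decide)
  refine hP ▸ psl_of_TI P (fun u hu u1 => (eq_of_le_of_card_ge
    (fun g hg => mem_centralizer_singleton_iff.2 (comm_of_mem hc hg hu)) ?_).symm)
    (by rw [c8, hP]) (by omega) (by rw [c8, h] at c5; rw [hP]; omega)
  have d1 : 3 ∣ orderOf u := by
    obtain ⟨k, hk⟩ := (IsPGroup.iff_orderOf.1 P.2) ⟨u, hu⟩
    rw [orderOf_mk] at hk
    exact hk ▸ dvd_pow_self 3 fun e => u1 (by simpa [e] using hk)
  have d2 := not_dvd_cent Nat.prime_two b2 d1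
  have d3 := not_dvd_cent (by norm_num) b1 d1
  have d4 : Nat.card (centralizer ({u} : Set G)) ∣ 9 * 5 * 2 ^ 3 :=
    (card_subgroup_dvd_card _).trans (by rw [h]; norm_num)
  rw [hP]
  exact Nat.le_of_dvd (by norm_num)
    ((((by norm_num : Nat.Prime 5).coprime_iff_not_dvd.2 d3).symm).dvd_of_dvd_mul_right
      ((((Nat.prime_two.coprime_iff_not_dvd.2 d2).symm).pow_right 3).dvd_of_dvd_mul_right d4))

theorem psl_504 [IsSimpleGroup G] (h : Nat.card G = 504) :
    ∃ (F : Type) (_ : Field F) (_ : Fintype F), Fintype.card F = 8 ∧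
      Nonempty (G ≃* PSL(2, F)) := by
  classical
  have := Fintype.ofFinite G
  have hG : ¬ IsMulCommutative G := not_comm_of_simple (by rw [h]; norm_num)
  have : Fact (Nat.Prime 7) := ⟨by norm_num⟩
  have h7 : ∀ x : G, orderOf x = 7 → SC 7 x := fun x hx =>
    (sc_of_trees (e := 2) (m := 36) hG (by omega) (syl1_of_ord hx (by rw [h]; norm_num))
      (by rw [h]; decide +kernel)).1
  obtain ⟨x, hx⟩ := exists_syl1 (G := G) (p := 7) (by rw [h]; norm_num) (by rw [h]; norm_num)
  obtain ⟨χ, μ, δ, ε, a1, a2, a3, a4, a6, a5⟩ := tree_two (a := 8) hG (by omega) hx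
    (by rw [h]; decide +kernel)
  obtain rfl : δ = 1 := by rcases a1 with rfl | rfl <;> omega
  have b0 : ∀ g : G, 2 ∣ orderOf g → (χ : G → ℂ) g = 0 := fun g =>
    defect_zero (d := 8) (r := 63) Nat.prime_two (by omega) h.symm (by norm_num)
  have b3 : ∀ g : G, 3 ∣ orderOf g → (χ : G → ℂ) g = -1 := fun g e => by
    have := a5 g fun e' => by rw [ord_eq_of_sc h7 e'] at e; omega
    rw [defect_zero (χ := μ) (d := 9) (r := 56) Nat.prime_three
      (by rcases a2 with rfl | rfl <;> omega) h.symm (by norm_num) e] at this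
    linear_combination this
  have b1 : ∀ g : G, 2 ∣ orderOf g → ¬ 7 ∣ orderOf g := fun g e e' => by
    rw [ord_eq_of_sc h7 e'] at e; omega
  have b2 : ∀ g : G, 2 ∣ orderOf g → ¬ 3 ∣ orderOf g := fun g e e' => by
    simpa using (b0 g e).symm.trans (b3 g e')
  have b4 : ∀ g : G, g ≠ 1 → ¬ 2 ∣ orderOf g → ‖(χ : G → ℂ) g‖ ^ 2 = 1 := fun g g1 e => by
    by_cases e' : 7 ∣ orderOf g
    · obtain ⟨i, i0, v, hv, h1⟩ := hx.exists_conj e'
      have := (h7 x hx.ord).pow_p ((h7 x hx.ord).cent ▸ (hx.mem_Vc.1 hv).1)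
      obtain rfl : v = 1 := by_contra fun v1 =>
        (hx.mem_Vc.1 hv).2 (orderOf_eq_prime this v1).symm.dvd
      rw [χ.2.isClassFunction.of_isConj h1, mul_one, a6 i i0]
      simp
    · obtain ⟨l, hl, h1⟩ := Nat.exists_prime_and_dvd (mt orderOf_eq_one_iff.1 g1)
      have h2 : l ∣ 2 ^ 3 * 3 ^ 2 * 7 := h1.trans ((orderOf_dvd_natCard g).trans (by rw [h]; norm_num))
      simp only [hl.dvd_mul, hl.prime.dvd_pow_iff_dvd (by norm_num : 3 ≠ 0),
        hl.prime.dvd_pow_iff_dvd (by norm_num : 2 ≠ 0), Nat.prime_dvd_prime_iff_eq hl Nat.prime_two,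
        Nat.prime_dvd_prime_iff_eq hl Nat.prime_three,
        Nat.prime_dvd_prime_iff_eq hl (by norm_num : Nat.Prime 7)] at h2
      rcases h2 with (rfl | rfl) | rfl
      · exact absurd h1 e
      · rw [b3 g h1]; simp
      · exact absurd h1 e'
  have c1 := classInner_self_re (χ : G → ℂ)
  rw [χ.2.classInner_self, h, ← sum_filter_add_sum_filter_not _ (2 ∣ orderOf ·),
    sum_eq_zero fun g hg => by rw [b0 g (mem_filter.1 hg).2]; simp, zero_add,
    ← add_sum_erase (a := 1) _ _ (by simp), sum_congr rfl fun g hg =>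
      b4 g (ne_of_mem_erase hg) (mem_filter.1 (mem_of_mem_erase hg)).2, sum_const,
    card_erase_of_mem (by simp), irr_one_eq, show charDegree (χ : G → ℂ) = 8 by omega] at c1
  have c2 := card_filter_add_card_filter_not (s := (univ : Finset G)) (2 ∣ orderOf ·)
  rw [card_univ, ← Nat.card_eq_fintype_card, h] at c2
  have c3 : (univ.filter fun g : G => 2 ∣ orderOf g).card = 63 := by
    simp only [Complex.one_re, Complex.norm_natCast, nsmul_eq_mul, mul_one] at c1
    have : (504 : ℝ) = 8 ^ 2 + ((univ.filter fun g : G => ¬ 2 ∣ orderOf g).card - 1 : ℕ) := by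
      push_cast at c1 ⊢; linarith
    have : 504 = 8 ^ 2 + ((univ.filter fun g : G => ¬ 2 ∣ orderOf g).card - 1 : ℕ) := by
      exact_mod_cast this
    omega
  obtain ⟨S⟩ : Nonempty (Sylow 2 G) := inferInstance
  have hS : Nat.card S = 8 := card_sylow_of_card S (k := 3) (m := 63) h (by norm_num)
  obtain ⟨z, hz, z1, hz'⟩ := exists_central S (by rw [h]; norm_num)
  obtain ⟨t, ht, t2⟩ := exists_mem_orderOf_eq_prime Nat.prime_two (dvd_card_of_isPGroup
    (S.2.to_le (zpowers_le.2 hz)) (by simpa using z1))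
  have d1 : (S : Subgroup G) ≤ centralizer {t} := fun g hg => by
    obtain ⟨i, rfl⟩ := ht
    exact mem_centralizer_singleton_iff.2 (Commute.zpow_right (hz' g hg) i)
  have d2 := not_dvd_cent Nat.prime_three b2 t2.symm.dvd
  have d3 := not_dvd_cent (by norm_num) b1 t2.symm.dvd
  have d4 : Nat.card (centralizer ({t} : Set G)) ∣ 8 * 7 * 3 ^ 2 :=
    (card_subgroup_dvd_card _).trans (by rw [h]; norm_num)
  have d5 := (((by norm_num : Nat.Prime 7).coprime_iff_not_dvd.2 d3).symm).dvd_of_dvd_mul_right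
      ((((Nat.prime_three.coprime_iff_not_dvd.2 d2).symm).pow_right 2).dvd_of_dvd_mul_right d4)
  have d6 : Nat.card (centralizer ({t} : Set G)) = 8 :=
    Nat.dvd_antisymm d5 (hS ▸ card_dvd_of_le d1)
  have d7 := card_class (x := t) (k := 63) (fun g => Iff.rfl) d6 h
  rw [Nat.card_eq_fintype_card, Fintype.card_subtype, ← c3] at d7
  have d8 := eq_of_subset_of_card_le (fun g hg => by
    simp only [mem_filter, mem_univ, true_and] at hg ⊢
    rw [← Inv.orderOf_isConj hg, t2]) d7.ge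
  have d9 : ∀ c ∈ centralizer ({t} : Set G), c ≠ 1 → IsConj t c := fun c hc c1 => by
    have h1 := orderOf_dvd_card_of_mem hc
    rw [d6, show 8 = 2 ^ 3 by norm_num, Nat.dvd_prime_pow Nat.prime_two] at h1
    obtain ⟨k, -, hk⟩ := h1
    have : c ∈ univ.filter fun g : G => 2 ∣ orderOf g := mem_filter.2 ⟨mem_univ _,
      hk ▸ dvd_pow_self 2 fun e => c1 (by simpa [e] using hk)⟩
    exact (mem_filter.1 (d8.symm ▸ this)).2
  refine psl_even_of_cent (ne_one_of_ord2 t2) (fun c hc => ?_) d9 d6 h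
  by_cases c1 : c = 1
  · simp [c1]
  · exact (ord2_iff.1 ((Inv.orderOf_isConj (d9 c hc c1)).symm.trans t2)).1

end Cfsg.Agent.H9
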