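import Cfsg.Agent.Inv.BR1
import Cfsg.Agent.PLoc.MaxCl

/-! Groups in which involutions have elementary abelian centralizers. -/

set_option autoImplicit false
set_option linter.unusedVariables false
set_option linter.unusedSectionVars false

namespace Cfsg.Agent.H9

open Subgroup MulAction Cfsg.Agent.PLoc Cfsg.Agent.Inv
open scoped MatrixGroups

variable {G : Type*} [Group G] [Finite G]

structure EI (T : Sylow 2 G) : Prop where
  nc : ¬ IsCyclic (T : Subgroup G)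
  nn : ¬ (T : Subgroup G).Normal
  cent : ∀ t : G, orderOf t = 2 → IsMulCommutative (centralizer ({t} : Set G)) ∧
    ∀ c ∈ centralizer ({t} : Set G), c ^ 2 = 1

/-- the normalizer of a Sylow subgroup -/
abbrev NT (T : Sylow 2 G) : Subgroup G := normalizer ((T : Subgroup G) : Set G)

namespace EI

variable {T : Sylow 2 G} (h : EI T)
include h


theorem ne_bot : (T : Subgroup G) ≠ ⊥ := fun e => h.nc (e ▸ inferInstance)

theorem exists_le : ∃ z, orderOf z = 2 ∧ (T : Subgroup G) ≤ centralizer {z} := by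
  obtain ⟨z, hz, z2⟩ := exists_involution_of_isPGroup (X := (T : Subgroup G) ⊓ centralizer T)
    T.2.to_inf_left (inf_centralizer_ne_bot T.2 T.2 le_normalizer h.ne_bot)
  exact ⟨z, z2, fun x hx => mem_centralizer_singleton_iff.2 (hz.2 x hx)⟩

theorem ord {t : G} (ht : t ∈ (T : Subgroup G)) (t1 : t ≠ 1) : orderOf t = 2 := by
  obtain ⟨z, z2, hz⟩ := h.exists_le
  exact orderOf_eq_prime ((h.cent z z2).2 t (hz ht)) t1

theorem cent_eq {t : G} (ht : t ∈ (T : Subgroup G)) (t1 : t ≠ 1) :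
    centralizer {t} = (T : Subgroup G) := by
  obtain ⟨z, z2, hz⟩ := h.exists_le
  exact (isSylowOf_top T).eq_of_le (isPGroup_iff_forall.2 fun c hc =>
    ⟨1, (h.cent t (h.ord ht t1)).2 c hc⟩) le_top fun x hx =>
      mem_centralizer_singleton_iff.2 (comm_of_mem (h.cent z z2).1 (hz hx) (hz ht))

theorem mem_of_inv {t : G} (ht : t ∈ (NT T)) (t2 : orderOf t = 2) : t ∈ (T : Subgroup G) :=
  Class.mem_sylow_of_mem_normalizer T ht (k := 1) (orderOf_dvd_iff_pow_eq_one.1 t2.dvd)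

theorem four_le : 4 ≤ Nat.card T := by
  obtain ⟨k, hk⟩ := T.2.exists_card_eq
  rcases k with _ | _ | k
  · exact absurd (card_eq_one.1 hk) h.ne_bot
  · exact absurd (isCyclic_of_prime_card (p := 2) hk) h.nc
  · rw [hk, pow_add, pow_add]; have := Nat.one_le_two_pow (n := k); omega

theorem se : IsStronglyEmbedded (NT T) := by
  obtain ⟨z, hz, z2⟩ := exists_involution_of_isPGroup T.2 h.ne_bot
  refine se_iff.2 ⟨fun e => h.nn (normalizer_eq_top_iff.1 e),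
    even_card_of_mem z2 (le_normalizer hz), fun t ht t2 g hg => cj_eq_self_iff.1 ?_⟩
  have h1 : orderOf (g * t * g⁻¹) = 2 := by rw [PLoc.orderOf_conj', t2]
  rw [← h.cent_eq (h.mem_of_inv ht t2) (ne_one_of_ord2 t2), ← centralizer_zpowers, cj_centralizer,
    cj_zpowers, centralizer_zpowers, h.cent_eq (h.mem_of_inv hg h1) (ne_one_of_ord2 h1),
    centralizer_zpowers, h.cent_eq (h.mem_of_inv ht t2) (ne_one_of_ord2 t2)]

theorem card_inv : Nat.card {t : G // orderOf t = 2 ∧ t ∈ (NT T)} = Nat.card T - 1 := by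
  have := Set.ncard_diff_singleton_of_mem (s := ((T : Subgroup G) : Set G)) (one_mem _)
  rw [← Nat.card_coe_set_eq] at this
  refine Eq.trans (Nat.card_congr (Equiv.subtypeEquivRight fun t => ?_)) this
  exact ⟨fun e => ⟨h.mem_of_inv e.2 e.1, ne_one_of_ord2 e.1⟩,
    fun e => ⟨h.ord e.1 e.2, le_normalizer e.1⟩⟩

theorem exists_inv {g : G} (hg : g ∉ (NT T)) : ∃ w, orderOf w = 2 ∧ g⁻¹ * w ∈ (NT T) := by
  have h1 := se_card_coset h.se hg
  have := h.four_le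
  rw [h.card_inv] at h1
  obtain ⟨w⟩ := (Nat.card_pos_iff.1 (h1 ▸ (by omega : 0 < Nat.card T - 1))).1
  exact ⟨w, w.2⟩

theorem eq_one {u d : G} (hu : u ∉ (NT T)) (hd : d ∈ (NT T) ⊓ cj u (NT T)) (hT : d ∈ (T : Subgroup G)) : d = 1 := by
  by_contra d1
  exact (Nat.not_even_iff_odd.2 (h.se.2.2 u hu)) (even_card_of_mem (h.ord hT d1) hd)

section

variable {u : G} (u2 : orderOf u = 2) (hu : u ∉ (NT T))
include u2 hu

theorem D_main : (∀ d ∈ (NT T) ⊓ cj u (NT T), u * d * u⁻¹ = d⁻¹) ∧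
    Nat.card ((NT T) ⊓ cj u (NT T) : Subgroup G) = Nat.card T - 1 := by
  have ui := inv_eq_of_mul_eq_one_right (ord2_iff.1 u2).1
  have h1 := se_card_coset h.se hu
  rw [h.card_inv] at h1
  have := h.four_le
  have h2 := Nat.le_of_dvd (by omega) (Class.card_dvd_card_sub_one ((NT T) ⊓ cj u (NT T)) T
    (fun s hs k hk => conj_mem_of_mem_normalizer hs.1 hk) fun s hs k hk e =>
      or_iff_not_imp_right.2 fun k1 =>
        h.eq_one hu hs (h.cent_eq hk k1 ▸ mem_centralizer_singleton_iff.2 e))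
  have k1 : ∀ w : G, orderOf w = 2 → u * (u⁻¹ * w) * u⁻¹ = (u⁻¹ * w)⁻¹ := fun w w2 => by
    rw [mul_inv_rev, inv_inv, inv_eq_of_mul_eq_one_right (ord2_iff.1 w2).1, mul_inv_cancel_left, ui]
  let f : {w : G // orderOf w = 2 ∧ u⁻¹ * w ∈ (NT T)} → ((NT T) ⊓ cj u (NT T) : Subgroup G) := fun w =>
    ⟨u⁻¹ * w.1, w.2.2, mem_cj_of_inverts w.2.2 (k1 w.1 w.2.1)⟩
  have hf : Function.Injective f := fun a b e =>
    Subtype.ext (mul_left_cancel (congrArg Subtype.val e : u⁻¹ * a.1 = u⁻¹ * b.1))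
  have h3 := le_antisymm h2 (h1 ▸ Nat.card_le_card_of_injective f hf)
  refine ⟨fun d hd => ?_, h3⟩
  obtain ⟨w, hw⟩ := ((Nat.bijective_iff_injective_and_card f).2 ⟨hf, h1.trans h3.symm⟩).2 ⟨d, hd⟩
  exact (show u⁻¹ * w.1 = d from congrArg Subtype.val hw) ▸ k1 w.1 w.2.1

theorem D_comm {a b : G} (ha : a ∈ (NT T) ⊓ cj u (NT T)) (hb : b ∈ (NT T) ⊓ cj u (NT T)) : a * b = b * a :=
  comm_of_mem (comm_of_inverts (h.D_main u2 hu).1) ha hb

theorem exists_mul {x : G} (hx : x ∈ (NT T)) : ∃ d ∈ (NT T) ⊓ cj u (NT T), ∃ t ∈ (T : Subgroup G), x = d * t := by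
  obtain ⟨z, hz, z2⟩ := exists_involution_of_isPGroup T.2 h.ne_bot
  obtain ⟨d, hd, h1, h2⟩ := se_exists_inverted h.se u2 hu z2 (le_normalizer hz)
    ((PLoc.orderOf_conj' x z).trans z2) (le_normalizer (conj_mem_of_mem_normalizer hx hz))
  refine ⟨d, ⟨hd, mem_cj_of_inverts hd h1⟩, d⁻¹ * x, ?_, by simp⟩
  rw [← h.cent_eq hz (ne_one_of_ord2 z2), mem_centralizer_singleton_iff]
  calc _ = d⁻¹ * (x * z * x⁻¹) * x := by group
    _ = _ := by rw [← h2]; group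

theorem compl : IsComplement' (((NT T) ⊓ cj u (NT T)).subgroupOf (NT T)) ((T : Subgroup G).subgroupOf (NT T)) :=
  isComplement'_of_disjoint_and_mul_eq_univ
    (disjoint_iff.2 ((eq_bot_iff_forall _).2 fun x hx => Subtype.ext (h.eq_one hu hx.1 hx.2)))
    (Set.eq_univ_of_forall fun x => by
      obtain ⟨d, hd, t, ht, e⟩ := h.exists_mul u2 hu x.2
      exact ⟨⟨d, hd.1⟩, hd, ⟨t, le_normalizer ht⟩, ht, Subtype.ext e.symm⟩)

theorem card_H : Nat.card (NT T) = Nat.card T * (Nat.card T - 1) := by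
  rw [← (h.compl u2 hu).card_mul_card, card_subgroupOf_of_le inf_le_left,
    card_subgroupOf_of_le le_normalizer, (h.D_main u2 hu).2, mul_comm]

theorem mem_D {d c : G} (hd : d ∈ (NT T) ⊓ cj u (NT T)) (d1 : d ≠ 1) (hc : c ∈ (NT T)) (e : c * d = d * c) :
    c ∈ (NT T) ⊓ cj u (NT T) := by
  obtain ⟨a, ha, t, ht, rfl⟩ := h.exists_mul u2 hu hc
  by_cases t1 : t = 1
  · simpa [t1] using ha
  refine absurd (h.eq_one hu hd (h.cent_eq ht t1 ▸ mem_centralizer_singleton_iff.2 ?_)) d1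
  rw [← mul_assoc, ← h.D_comm u2 hu ha hd, mul_assoc, mul_assoc] at e
  exact (mul_left_cancel e).symm

theorem D_eq {v d : G} (v2 : orderOf v = 2) (hv : v ∉ (NT T)) (hd : d ∈ (NT T) ⊓ cj u (NT T)) (d1 : d ≠ 1)
    (hd' : d ∈ (NT T) ⊓ cj v (NT T)) : (NT T) ⊓ cj v (NT T) = (NT T) ⊓ cj u (NT T) :=
  eq_of_le_of_card_ge (fun c hc => h.mem_D u2 hu hd d1 hc.1 (h.D_comm v2 hv hc hd'))
    (by rw [(h.D_main u2 hu).2, (h.D_main v2 hv).2])

theorem fix {d g : G} (hd : d ∈ (NT T) ⊓ cj u (NT T)) (d1 : d ≠ 1) (hg : g⁻¹ * d * g ∈ (NT T)) :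
    g ∈ (NT T) ∨ u⁻¹ * g ∈ (NT T) := by
  refine or_iff_not_imp_left.2 fun g1 => ?_
  have key : ∀ g, g⁻¹ * d * g ∈ (NT T) → g ∉ (NT T) → ∃ v, g⁻¹ * v ∈ (NT T) ∧ v * d * v⁻¹ = d⁻¹ := fun g hg g1 => by
    obtain ⟨v, v2, hv⟩ := h.exists_inv g1
    have v1 : v ∉ (NT T) := fun e => g1 (by simpa using mul_mem e (inv_mem hv))
    refine ⟨v, hv, (h.D_main v2 v1).1 d ⟨hd.1, mem_cj.2 ?_⟩⟩
    simpa [mul_assoc] using mul_mem (mul_mem (inv_mem hv) hg) hv
  obtain ⟨v, hv, h1⟩ := key g hg g1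
  have h2 : (u⁻¹ * v)⁻¹ * d * (u⁻¹ * v) = d := by
    rw [show (u⁻¹ * v)⁻¹ * d * (u⁻¹ * v) = v⁻¹ * (u * d * u⁻¹) * v by group, (h.D_main u2 hu).1 d hd,
      ← h1]; group
  by_contra h3
  have h4 : u⁻¹ * v ∉ (NT T) := fun e => h3 (by simpa using mul_mem e (inv_mem hv))
  obtain ⟨w, hw, h5⟩ := key _ (h2.symm ▸ hd.1) h4
  obtain ⟨a, ha, t, ht, h6⟩ := h.exists_mul u2 hu hw
  have h7 : t * d * t⁻¹ = d⁻¹ := by
    have i1 : a⁻¹ * d⁻¹ * a = d⁻¹ := by
      rw [mul_assoc, h.D_comm u2 hu (inv_mem hd) ha, inv_mul_cancel_left]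
    calc _ = a⁻¹ * ((u⁻¹ * v)⁻¹ * (w * d * w⁻¹) * (u⁻¹ * v)) * a := by
          rw [show t = a⁻¹ * ((u⁻¹ * v)⁻¹ * w) by rw [h6]; group]; group
      _ = a⁻¹ * ((u⁻¹ * v)⁻¹ * d * (u⁻¹ * v))⁻¹ * a := by rw [h5]; group
      _ = _ := by rw [h2, i1]
  have h8 : d * d = 1 := h.eq_one hu (mul_mem hd hd) (by
    have := mul_mem (conj_mem_of_mem_normalizer hd.1 ht) (inv_mem ht)
    rwa [show d * t * d⁻¹ * t⁻¹ = d * (t * d * t⁻¹)⁻¹ by group, h7, inv_inv] at this)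
  exact d1 (h.eq_one hu hd (h.mem_of_inv hd.1 (ord2_iff.2 ⟨h8, d1⟩)))

end

theorem smul_one {g : G} : g • ((1 : G) : G ⧸ NT T) = (1 : G) ↔ g ∈ NT T :=
  mem_stabilizer_iff.symm.trans (by rw [stabilizer_quotient])

theorem exists_out : ∃ u, orderOf u = 2 ∧ u ∉ NT T := by
  obtain ⟨g, hg⟩ : ∃ g, g ∉ NT T := not_forall.1 fun e => h.se.1 ((eq_top_iff' _).2 e)
  obtain ⟨v, v2, hv⟩ := h.exists_inv hg
  exact ⟨v, v2, fun e => hg (by simpa using mul_mem e (inv_mem hv))⟩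

theorem free {t : G} (ht : t ∈ (T : Subgroup G)) {c : G ⧸ NT T} (hc : c ≠ (1 : G))
    (e : t • c = c) : t = 1 := by
  obtain ⟨g, rfl⟩ := QuotientGroup.mk_surjective c
  refine h.eq_one (u := g) (fun e => hc (QuotientGroup.eq.2 (by simpa using e)))
    ⟨le_normalizer ht, mem_cj.2 (smul_mk_eq_iff.1 e)⟩ ht

theorem index : (NT T).index = Nat.card T + 1 := by
  classical
  have q4 := h.four_le
  have h1 := Class.card_dvd_ncard_of_free (T : Subgroup G) {c : G ⧸ NT T | c ≠ (1 : G)}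
    (fun g hg a ha e => ha (by
      rw [smul_eq_iff_eq_inv_smul] at e
      rw [e, h.smul_one.2 (inv_mem (le_normalizer hg))])) fun g hg a ha e => h.free hg ha e
  have h2 : {c : G ⧸ NT T | c ≠ (1 : G)}.ncard = (NT T).index - 1 := by
    rw [index_eq_card, ← Set.ncard_univ, ← Set.ncard_diff_singleton_of_mem (Set.mem_univ ((1 : G) :
      G ⧸ NT T))]
    congr 1; ext; simp
  have uq : ∀ d ∈ NT T, d ≠ 1 → ∀ b c : G ⧸ NT T, b ≠ (1 : G) → c ≠ (1 : G) → d • b = b →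
      d • c = c → b = c := fun d hd d1 b c hb hc e1 e2 => by
    obtain ⟨g, rfl⟩ := QuotientGroup.mk_surjective b
    obtain ⟨k, rfl⟩ := QuotientGroup.mk_surjective c
    have g1 : g ∉ NT T := fun e => hb (QuotientGroup.eq.2 (by simpa using e))
    obtain ⟨v, v2, hv⟩ := h.exists_inv g1
    have v1 : v ∉ NT T := fun e => g1 (by simpa using mul_mem e (inv_mem hv))
    rw [QuotientGroup.eq.2 hv] at e1 ⊢
    exact QuotientGroup.eq.2 ((h.fix v2 v1 ⟨hd, mem_cj.2 (smul_mk_eq_iff.1 e1)⟩ d1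
      (smul_mk_eq_iff.1 e2)).resolve_left fun e => hc (QuotientGroup.eq.2 (by simpa using e)))
  let S : Set G := {d | d ∈ NT T ∧ d ≠ 1 ∧ ∃ c : G ⧸ NT T, c ≠ (1 : G) ∧ d • c = c}
  have h3 := MC.ncard_fibers (fun d => if e : d ∈ S then e.2.2.choose else ((1 : G) : G ⧸ NT T)) S
    {c : G ⧸ NT T | c ≠ (1 : G)} (Nat.card T - 2) (fun d hd => by
      simp only [dif_pos hd]; exact hd.2.2.choose_spec.1) fun c hc => by
    obtain ⟨g, rfl⟩ := QuotientGroup.mk_surjective c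
    have g1 : g ∉ NT T := fun e => hc (QuotientGroup.eq.2 (by simpa using e))
    obtain ⟨v, v2, hv⟩ := h.exists_inv g1
    have v1 : v ∉ NT T := fun e => g1 (by simpa using mul_mem e (inv_mem hv))
    have := Set.ncard_diff_singleton_of_mem (s := ((NT T ⊓ cj v (NT T) : Subgroup G) : Set G))
      (one_mem _)
    rw [show ((NT T ⊓ cj v (NT T) : Subgroup G) : Set G).ncard = Nat.card T - 1 from
      (h.D_main v2 v1).2] at this
    rw [QuotientGroup.eq.2 hv] at hc ⊢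
    refine Eq.trans (congrArg Set.ncard (Set.ext fun d => ⟨?_, ?_⟩)) this <;> rintro ⟨a, b⟩
    · simp only [dif_pos a] at b
      exact ⟨⟨a.1, mem_cj.2 (smul_mk_eq_iff.1 (b ▸ a.2.2.choose_spec.2))⟩, a.2.1⟩
    · have e := smul_mk_eq_iff.2 (mem_cj.1 a.2)
      have hd : d ∈ S := ⟨a.1, b, _, hc, e⟩
      refine ⟨hd, ?_⟩
      simp only [dif_pos hd]
      exact uq d a.1 b _ _ hd.2.2.choose_spec.1 hc hd.2.2.choose_spec.2 e
  have h4 : S.ncard ≤ Nat.card (NT T) - Nat.card T := by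
    have := Set.ncard_diff (s := ((T : Subgroup G) : Set G)) (t := (NT T : Set G)) le_normalizer
    refine le_trans (Set.ncard_le_ncard (s := S) (t := (NT T : Set G) \ (T : Subgroup G))
      fun d hd => ⟨hd.1, fun e => ?_⟩) this.le
    obtain ⟨c, h1, h2⟩ := hd.2.2
    exact hd.2.1 (h.free e h1 h2)
  obtain ⟨u, u2, hu⟩ := h.exists_out
  rw [h3, h2, h.card_H u2 hu] at h4
  rw [h2] at h1
  have h5 : (NT T).index ≠ 1 := fun e => h.se.1 (index_eq_one.1 e)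
  have h6 := index_pos' (NT T)
  have h7 := Nat.le_of_dvd (by omega) h1
  obtain ⟨r, hr⟩ : ∃ r, Nat.card T = r + 2 := ⟨Nat.card T - 2, by omega⟩
  rw [hr] at h4 h7 q4 ⊢
  have h8 : (r + 2) * (r + 2 - 1) - (r + 2) = (r + 2) * r :=
    Nat.sub_eq_of_eq_add (by rw [show r + 2 - 1 = r + 1 by omega]; ring)
  rw [h8, Nat.add_sub_cancel] at h4
  have := Nat.le_of_mul_le_mul_right h4 (by omega)
  omega

theorem z0 : Z0 G (G ⧸ NT T) ∧ zk G ((1 : G) : G ⧸ NT T) = T :=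
  z0_of_ker _ _ (fun u hu => h.smul_one.2 (le_normalizer hu))
    (fun g hg u hu => conj_mem_of_mem_normalizer (h.smul_one.1 hg) hu) (fun u hu c => h.free hu)
    (by rw [← index_eq_card, h.index])
    (fun u hu u1 g e => h.cent_eq hu u1 ▸ mem_centralizer_singleton_iff.2 e)
    (by have := h.four_le; omega)

theorem tr3 : Tr3 G (G ⧸ NT T) := by
  obtain ⟨Z, hK⟩ := h.z0
  obtain ⟨b, hb⟩ := Z.exists_ne ((1 : G) : G ⧸ NT T)
  obtain ⟨u, u2, hu⟩ := h.exists_out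
  have h1 := Z.card_stab hb.symm
  have := h.four_le
  rw [stabilizer_quotient, hK, h.card_H u2 hu, mul_comm] at h1
  rw [Z.tr3_iff_card hb.symm, hK, ← Nat.eq_of_mul_eq_mul_right (by omega) h1]
  omega

theorem psl : ∃ (F : Type) (_ : Field F) (_ : Fintype F), Fintype.card F = Nat.card T ∧
    Nonempty (G ≃* PSL(2, F)) := by
  obtain ⟨z, hz, z2⟩ := exists_involution_of_isPGroup T.2 h.ne_bot
  obtain ⟨u, u2, hu⟩ := h.exists_out
  have h1 := h.cent_eq hz (ne_one_of_ord2 z2)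
  refine psl_even_of_cent (ne_one_of_ord2 z2) (fun c hc => by rw [← sq, (h.cent z z2).2 c hc])
    (fun c hc c1 => se_isConj h.se z2 (h.ord (h1 ▸ hc) c1)) (by rw [h1]) ?_
  rw [← (NT T).index_mul_card, h.index, h.card_H u2 hu, mul_assoc]

end EI

end Cfsg.Agent.H9
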