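import Cfsg.Agent.H9.Sm4
import Cfsg.Agent.H9.Sm1
import Cfsg.Agent.PF.FT

/-! A sieve for the orders of small simple groups. -/

set_option autoImplicit false
set_option linter.unusedVariables false
set_option linter.unusedSectionVars false

namespace Cfsg.Agent.H9

open Finset Subgroup Cfsg.Agent.PLoc Cfsg.Agent.Char Cfsg.Agent.Blk Cfsg.Agent.Inv

universe u

def ok2 (n : ℕ) (P : List ℕ) : Bool :=
  (P.all fun p => P.all fun q => decide ((p ^ 13 * q ^ 13) % n ≠ 0)) &&
  (P.all fun p => decide (p ^ 3 ≤ n) || decide (2 * n = p * (p ^ 2 - 1)) ||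
    decide (n = (p - 1) * ((p - 1) ^ 2 - 1))) &&
  (P.all fun p => (dvs n).any fun d => decide (d % p = 1) && idxOK n d) &&
  (P.all fun p => decide (n < p ^ 3) || decide (n % (p ^ 2) = 0) || !(trees n p).isEmpty) &&
  (decide (n % 8 = 0) || kleinOK n) &&
  (decide (n % 8 ≠ 0) || decide (n % 16 = 0) || decide (n % 7 = 0) || d8OK n)

def ok (n : ℕ) : Bool :=
  (decide (n % 12 = 0) || decide (n % 16 = 0) || decide (n % 56 = 0)) && ok2 n (prs n)

variable {G : Type u} [Group G] [Finite G] [IsSimpleGroup G]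

theorem even_card (hG : ¬ IsMulCommutative G) : Even (Nat.card G) :=
  PF.even_of_simple fun h => hG ⟨⟨h⟩⟩

theorem not_prime_card (hG : ¬ IsMulCommutative G) : ¬ (Nat.card G).Prime := fun h => by
  have := Fact.mk h
  have := isCyclic_of_prime_card (α := G) rfl
  exact hG inferInstance

theorem not_dvd_pow_mul_pow (hG : ¬ IsMulCommutative G) {p q : ℕ} (hp : p.Prime) (hq : q.Prime)
    (a b : ℕ) : ¬ Nat.card G ∣ p ^ a * q ^ b := fun h =>
  hG ⟨⟨IsSimpleGroup.comm_iff_isSolvable.2 (isSolvable_of_card_dvd_pow_mul_pow hp hq G h)⟩⟩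

theorem ok_card (hG : ¬ IsMulCommutative G) (hn : Nat.card G < 6400) :
    ok (Nat.card G) = true := by
  have h2 := even_card hG
  simp only [ok, ok2, Bool.and_eq_true, Bool.or_eq_true, decide_eq_true_eq, List.all_eq_true,
    List.any_eq_true, Bool.not_eq_true', List.isEmpty_eq_false_iff, ← Nat.dvd_iff_mod_eq_zero,
    ne_eq]
  refine ⟨by have := s0499 hG h2; tauto, ⟨⟨⟨⟨fun p hp q hq =>
    not_dvd_pow_mul_pow hG (mem_prs hp).1 (mem_prs hq).1 _ _, fun p hp => ?_⟩, fun p hp => ?_⟩,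
    fun p hp => ?_⟩, ?_⟩, ?_⟩
  · by_cases h : p ^ 3 ≤ Nat.card G
    · exact Or.inl (Or.inl h)
    · have := big_prime_card (not_prime_card hG) p (mem_prs hp).1 (mem_prs hp).2 (by omega)
      tauto
  · have := Fact.mk (mem_prs hp).1
    obtain ⟨P⟩ : Nonempty (Sylow p G) := inferInstance
    refine ⟨_, mem_dvs Nat.card_pos hn (index_dvd_card _), ?_,
      idxOK_index hG (normalizer_sylow_ne_top hG (mem_prs hp).2 P)⟩
    have h1 := card_sylow_modEq_one p G
    rw [P.card_eq_index_normalizer] at h1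
    exact Eq.trans h1 (Nat.mod_eq_of_lt this.out.one_lt)
  · by_cases h : p ^ 2 ∣ Nat.card G
    · exact Or.inl (Or.inr h)
    · exact Or.inr (trees_ne_nil hG hn (mem_prs hp).1 (mem_prs hp).2 h)
  · by_cases h : 8 ∣ Nat.card G
    · exact Or.inl h
    · exact Or.inr (kleinOK_card hG hn h2 h)
  · by_cases h : 8 ∣ Nat.card G
    · by_cases h1 : 16 ∣ Nat.card G
      · tauto
      by_cases h7 : 7 ∣ Nat.card G
      · tauto
      exact Or.inr (d8OK_card hG hn h h1 h7)
    · tauto

theorem mem_sieve (hG : ¬ IsMulCommutative G) {a b : ℕ} (h1 : a ≤ Nat.card G)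
    (h2 : Nat.card G < a + b) (h3 : a + b ≤ 6400) :
    Nat.card G ∈ (List.range' a b).filter ok :=
  List.mem_filter.2 ⟨List.mem_range'_1.2 ⟨h1, h2⟩, ok_card hG (by omega)⟩

theorem sieve1 : (List.range' 1 1092).filter ok = [60, 168, 360, 504, 660, 1092] := by
  decide +kernel

theorem sieve3 : (List.range' 3641 2592).filter ok = [4080, 5616, 6048, 6072] := by
  decide +kernel

end Cfsg.Agent.H9
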