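import Cfsg.Agent.H9.Sm3
import Cfsg.Agent.Blk.BS3
import Cfsg.Agent.S0514

/-! Small Sylow `2`-subgroups of simple groups. -/

set_option autoImplicit false
set_option linter.unusedVariables false
set_option linter.unusedSectionVars false

namespace Cfsg.Agent.H9

open Finset Subgroup Cfsg.Agent.PLoc Cfsg.Agent.Char Cfsg.Agent.Blk Cfsg.Agent.Inv
open scoped IsMulCommutative ComplexConjugate

universe u

variable {G : Type u} [Group G] [Finite G]

theorem not_npc [IsSimpleGroup G] (hG : ¬ IsMulCommutative G) {q : ℕ} [hq : Fact q.Prime]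
    (h : q ∣ Nat.card G) : ¬ NPC q (⊤ : Subgroup G) := by
  intro hc
  rw [npc_iff_coprime] at hc
  rcases IsSimpleGroup.eq_bot_or_eq_top_of_normal (pResOf q (⊤ : Subgroup G)) inferInstance
    with e | e
  · exact not_isPGroup_of_simple hG (isPGroup_top_iff.1 (pResOf_eq_bot_iff.1 e))
  · rw [e, card_top] at hc
    exact hq.out.one_lt.ne' (Nat.Coprime.eq_one_of_dvd hc.symm h)

theorem commutator_eq_top_of_simple [IsSimpleGroup G] (hG : ¬ IsMulCommutative G) :
    _root_.commutator G = ⊤ :=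
  (IsSimpleGroup.eq_bot_or_eq_top_of_normal _ inferInstance).resolve_left fun e =>
    hG ⟨⟨fun a b => commutatorElement_eq_one_iff_mul_comm.1 (mem_bot.1
      (e ▸ commutator_mem_commutator (mem_top a) (mem_top b)))⟩⟩

theorem normalizer_sylow_ne_top [IsSimpleGroup G] (hG : ¬ IsMulCommutative G) {p : ℕ}
    [hp : Fact p.Prime] (h : p ∣ Nat.card G) (P : Sylow p G) : normalizer ((P : Subgroup G) : Set G) ≠ ⊤ := fun e => by
  rcases (normalizer_eq_top_iff.1 e).eq_bot_or_eq_top with e1 | e1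
  · exact P.ne_bot_of_dvd_card h e1
  · exact not_isPGroup_of_simple hG (isPGroup_top_iff.1 (e1 ▸ P.2))

/-- Burnside's theorem for simple groups -/
theorem not_norm_le_cent [IsSimpleGroup G] (hG : ¬ IsMulCommutative G) {q : ℕ} [hq : Fact q.Prime]
    (h : q ∣ Nat.card G) (P : Sylow q G) :
    ¬ normalizer ((P : Subgroup G) : Set G) ≤ centralizer ((P : Subgroup G) : Set G) := fun e =>
  not_npc hG h ((isSylowOf_top P).npc_of_burnside (by rw [top_inf_eq]; exact e))

theorem three_or_seven {Q R : Subgroup G} (hQ : Nat.card Q ∣ 8) {l : ℕ} [hl : Fact l.Prime]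
    (l2 : l ≠ 2) (hR : IsPGroup l R) (hn : R ≤ normalizer (Q : Set G))
    (hc : ¬ R ≤ centralizer (Q : Set G)) : l = 3 ∨ (l = 7 ∧ Nat.card Q = 8) := by
  have h1 := card_modEq_card_inf_centralizer hR hn
  have h2 : Q ⊓ centralizer (R : Set G) < Q :=
    lt_of_le_of_ne inf_le_left fun e => hc (le_centralizer_iff.mp (e.ge.trans inf_le_right))
  have h3 := card_lt_of_lt h2
  have h4 := card_dvd_of_le h2.le
  have h5 := (Nat.modEq_iff_dvd' h3.le).1 h1.symm
  generalize Nat.card (Q ⊓ centralizer (R : Set G) : Subgroup G) = a at *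
  generalize Nat.card Q = b at *
  have h6 := Nat.le_of_dvd (by norm_num) hQ
  have h7 := Nat.le_of_dvd (by omega) h5
  have h8 := hl.out
  have h9 : l ≤ 8 := by omega
  interval_cases l <;> first | (exfalso; revert h8; decide) | skip
  all_goals interval_cases b <;> interval_cases a <;> simp_all

theorem exists_act [IsSimpleGroup G] (hG : ¬ IsMulCommutative G) {q : ℕ} [hq : Fact q.Prime]
    (h : q ∣ Nat.card G) (P : Sylow q G) : ∃ Q ≤ (P : Subgroup G), ∃ l : ℕ, l.Prime ∧ l ≠ q ∧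
      ∃ R : Subgroup G, IsPGroup l R ∧ R ≤ normalizer (Q : Set G) ∧
        ¬ R ≤ centralizer (Q : Set G) ∧ l ∣ Nat.card G := by
  by_contra hc
  push Not at hc
  refine not_npc hG h (npc_top_of_frobenius P fun Q hQ _ g hg ho =>
    mem_of_forall_prime_pow ho fun l hl hlq x hx ⟨k, hk⟩ => ?_)
  by_contra h1
  have := Fact.mk hl
  refine hc Q hQ l hl (fun e => hlq (e ▸ dvd_rfl)) (zpowers x) (isPGroup_zpowers hk)
    (zpowers_le.2 (zpowers_le.2 hg hx)) (fun e => h1 (e (mem_zpowers x))) ?_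
  exact ((isPGroup_zpowers hk).card_eq_or_dvd.resolve_left fun e => h1 (by
    rw [Nat.card_zpowers, orderOf_eq_one_iff] at e; rw [e]; exact one_mem _)).trans
    (card_subgroup_dvd_card _)

theorem card_ne_two [IsSimpleGroup G] (hG : ¬ IsMulCommutative G) : Nat.card G ≠ 2 := fun e => by
  have := isCyclic_of_prime_card e
  exact hG inferInstance

theorem sylow_card_dvd {q : ℕ} [hq : Fact q.Prime] (P : Sylow q G) {k : ℕ}
    (h : ¬ q ^ (k + 1) ∣ Nat.card G) : Nat.card P ∣ q ^ k := by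
  obtain ⟨j, hj⟩ := P.isPGroup'.exists_card_eq
  rw [hj]
  refine pow_dvd_pow q (Nat.le_of_not_lt fun e => h ((pow_dvd_pow q e).trans ?_))
  exact hj ▸ card_subgroup_dvd_card (P : Subgroup G)

theorem dvd_sylow_card {q : ℕ} [hq : Fact q.Prime] (P : Sylow q G) {k : ℕ}
    (h : q ^ k ∣ Nat.card G) : q ^ k ∣ Nat.card P := by
  rw [P.card_eq_multiplicity]
  exact pow_dvd_pow q ((hq.out.pow_dvd_iff_le_factorization Nat.card_pos.ne').1 h)

theorem s0499 [IsSimpleGroup G] (hG : ¬ IsMulCommutative G) (h2 : Even (Nat.card G)) :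
    12 ∣ Nat.card G ∨ 16 ∣ Nat.card G ∨ 56 ∣ Nat.card G := by
  have h4 := four_dvd_card_of_simple h2 (card_ne_two hG)
  by_cases h16 : 16 ∣ Nat.card G
  · exact Or.inr (Or.inl h16)
  obtain ⟨P⟩ : Nonempty (Sylow 2 G) := inferInstance
  obtain ⟨Q, hQ, l, hl, l2, R, h5, h6, h7, h8⟩ := exists_act hG (even_iff_two_dvd.1 h2) P
  have := Fact.mk hl
  rcases three_or_seven ((card_dvd_of_le hQ).trans (sylow_card_dvd P (k := 3) h16)) l2 h5 h6 h7
    with rfl | ⟨rfl, h9⟩
  · exact Or.inl (Nat.Coprime.mul_dvd_of_dvd_of_dvd (by norm_num : Nat.Coprime 4 3) h4 h8)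
  · exact Or.inr (Or.inr (Nat.Coprime.mul_dvd_of_dvd_of_dvd (by norm_num : Nat.Coprime 8 7)
      (h9 ▸ card_subgroup_dvd_card Q) h8))

theorem klein_sylow [IsSimpleGroup G] (hG : ¬ IsMulCommutative G) (h2 : Even (Nat.card G))
    (h8 : ¬ 8 ∣ Nat.card G) (T : Sylow 2 G) : IsKleinFour (T : Subgroup G) ∧
    ∃ g ∈ normalizer ((T : Subgroup G) : Set G), Odd (orderOf g) ∧
      g ∉ centralizer ((T : Subgroup G) : Set G) := by
  have h4 := four_dvd_card_of_simple h2 (card_ne_two hG)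
  have hT : Nat.card T = 4 :=
    Nat.dvd_antisymm (sylow_card_dvd T (k := 2) h8) (dvd_sylow_card T (k := 2) h4)
  have hn := not_npc hG (even_iff_two_dvd.1 h2)
  have hK : IsKleinFour (T : Subgroup G) :=
    kf_of_card hT fun w hw => by
      have h1 := orderOf_dvd_card_of_mem hw
      rw [hT, show 4 = 2 ^ 2 by norm_num, Nat.dvd_prime_pow Nat.prime_two] at h1
      obtain ⟨i, hi, h1⟩ := h1
      rw [← sq, ← orderOf_dvd_iff_pow_eq_one, h1]
      interval_cases i
      · norm_num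
      · norm_num
      · exact absurd (npc_of_isCyclic T (isCyclic_of_orderOf_eq_card ⟨w, hw⟩
          (by rw [orderOf_mk, h1, hT]; norm_num))) hn
  refine ⟨hK, ?_⟩
  by_contra h1
  push Not at h1
  apply not_norm_le_cent hG (even_iff_two_dvd.1 h2) T
  rw [← (isSylowOf_sylow T (H := normalizer ((T : Subgroup G) : Set G)) le_normalizer).sup_pResOf]
  exact sup_le (fun x hx y hy => kf_comm hK hy hx)
    (pResOf_le_iff.2 fun g hg ho => h1 g hg (Nat.coprime_two_right.1 ho))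

theorem klein_conj [IsSimpleGroup G] (hG : ¬ IsMulCommutative G) (h2 : Even (Nat.card G))
    (h8 : ¬ 8 ∣ Nat.card G) (s t : G) (hs : orderOf s = 2) (ht : orderOf t = 2) : IsConj s t := by
  obtain ⟨T⟩ : Nonempty (Sylow 2 G) := inferInstance
  obtain ⟨hK, g, hg, ho, hc⟩ := klein_sylow hG h2 h8 T
  obtain ⟨a, ha, h1, h3⟩ := exists_isConj_mem_sylow T (k := 1) hs
  obtain ⟨b, hb, h4, h5⟩ := exists_isConj_mem_sylow T (k := 1) ht
  obtain ⟨n, -, e⟩ := kf_conj_of_odd hK hg ho hc ha hb (ne_one_of_ord2 h3) (ne_one_of_ord2 h5)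
  exact h1.symm.trans ((isConj_iff.2 ⟨n, e⟩).trans h4)

def kleinOK (n : ℕ) : Bool :=
  (cand n).any fun a => decide (a % 4 = 1) && (cand n).any fun b => decide (b % 4 = 1) &&
    (cand n).any fun c => decide (c % 4 = 1) && decide (1 + a + b + c = 0)

theorem kleinOK_card [IsSimpleGroup G] (hG : ¬ IsMulCommutative G) (hn : Nat.card G < 6400)
    (h2 : Even (Nat.card G)) (h8 : ¬ 8 ∣ Nat.card G) : kleinOK (Nat.card G) = true := by
  obtain ⟨T⟩ : Nonempty (Sylow 2 G) := inferInstance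
  obtain ⟨M, hM⟩ := exists_isPModular 2 Nat.prime_two
  have : PMod 2 M := ⟨hM⟩
  have hK := (klein_sylow hG h2 h8 T).1
  obtain ⟨b, c, d, ε, h⟩ := exists_kleinBlk (M := M) T hK (klein_conj hG h2 h8)
  have h1 := fun z hz h1 => h.val z (kf_ord hK hz h1).symm.dvd
  have e1 := four_dvd_of_klein hK b (n := 1) fun z hz e => by simpa using (h1 z hz e).1
  have e2 := four_dvd_of_klein hK c fun z hz e => (h1 z hz e).2.1
  have e3 := four_dvd_of_klein hK d (n := -1) fun z hz e => by simpa using (h1 z hz e).2.2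
  have e4 := h.rel 1 (by simp)
  simp only [irr_one_eq] at e4
  have e5 : (1 : ℤ) + charDegree (b : G → ℂ) + ε * charDegree (c : G → ℂ) -
    charDegree (d : G → ℂ) = 0 := by exact_mod_cast e4
  simp only [kleinOK, List.any_eq_true, Bool.and_eq_true, decide_eq_true_eq]
  refine ⟨_, mem_cand hG hn h.n12.symm (Or.inl rfl), by omega, _, mem_cand hG hn h.n13.symm h.eps,
    ?_, _, mem_cand hG hn h.n14.symm (Or.inr rfl), by omega, by omega⟩
  rcases h.eps with e | e <;> rw [e] at e2 ⊢ <;> omega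

/-- a dihedral subgroup of order eight -/
structure D8 (S : Subgroup G) (u : G) : Prop where
  card : Nat.card S = 8
  mem : u ∈ S
  ord : orderOf u = 4
  out : ∀ w ∈ S, w ∉ zpowers u → orderOf w = 2

theorem ord4_cases {u v : G} (hu : orderOf u = 4) (hv : v ∈ zpowers u) :
    v = 1 ∨ v = u ∨ v = u ^ 2 ∨ v = u⁻¹ := by
  classical
  obtain ⟨i, hi, rfl⟩ : ∃ i < 4, u ^ i = v := by
    have := (mem_zpowers_iff_mem_range_orderOf).1 hv
    rw [hu] at this
    simpa using this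
  have : u ^ 3 = u⁻¹ := eq_inv_of_mul_eq_one_left (by rw [← pow_succ]; exact orderOf_dvd_iff_pow_eq_one.1 hu.dvd)
  interval_cases i <;> simp [this]

theorem ord_sq_of_ord4 {u : G} (hu : orderOf u = 4) : orderOf (u ^ 2) = 2 := by
  rw [orderOf_pow, hu]; norm_num

theorem eq_of_ord4 {u v : G} (hu : orderOf u = 4) (hv : v ∈ zpowers u) (h4 : orderOf v = 4) :
    v = u ∨ v = u⁻¹ := by
  rcases ord4_cases hu hv with rfl | h | rfl | h
  · simp at h4
  · exact Or.inl h
  · rw [ord_sq_of_ord4 hu] at h4; omega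
  · exact Or.inr h

theorem eq_of_ord2 {u v : G} (hu : orderOf u = 4) (hv : v ∈ zpowers u) (h2 : orderOf v = 2) :
    v = u ^ 2 := by
  rcases ord4_cases hu hv with rfl | rfl | h | rfl
  · simp at h2
  · omega
  · exact h
  · rw [orderOf_inv] at h2; omega

theorem relIndex_ord4 {S : Subgroup G} (h : Nat.card S = 8) {u : G} (hu : u ∈ S)
    (h4 : orderOf u = 4) : (zpowers u).relIndex S = 2 :=
  relIndex_eq_two_of_card (zpowers_le.2 hu) (by rw [Nat.card_zpowers, h4, h])

theorem conj_into [IsSimpleGroup G] (hG : ¬ IsMulCommutative G) (S : Sylow 2 G) {X : Subgroup G}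
    (h : X.relIndex (S : Subgroup G) = 2) {s : G} (hs : orderOf s = 2) : ∃ g, g * s * g⁻¹ ∈ X := by
  by_contra hc
  obtain ⟨M, -, h1, -⟩ := thompson_transfer S h hs (not_exists.1 hc)
  exact index_ne_two_of_simple (card_ne_two hG) M h1

theorem d8_of_ord4 [IsSimpleGroup G] (hG : ¬ IsMulCommutative G) (S : Sylow 2 G)
    (h : Nat.card S = 8) {u : G} (hu : u ∈ (S : Subgroup G)) (h4 : orderOf u = 4) :
    D8 (S : Subgroup G) u := by
  have hi := relIndex_ord4 h hu h4
  have h2 : 2 ∣ Nat.card G := (by norm_num : 2 ∣ 8).trans (h ▸ card_subgroup_dvd_card _)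
  obtain ⟨a, ha, a1, a2⟩ : ∃ a ∈ (S : Subgroup G), a ∉ zpowers u ∧ orderOf a = 2 := by
    by_contra hc
    push Not at hc
    have hr : R1 (S : Subgroup G) := fun v w hv hw _ => by
      rw [← orderOf_coe] at hv hw
      exact Subtype.ext ((eq_of_ord2 h4 (by_contra fun e => hc v v.2 e hv) hv).trans
        (eq_of_ord2 h4 (by_contra fun e => hc w w.2 e hw) hw).symm)
    obtain ⟨χ, h5, h6⟩ := bs_ker (r1_of_sylow S hr) (ord_sq_of_ord4 h4) (not_npc hG h2)
    exact ne_one_of_ord2 (ord_sq_of_ord4 h4) (eq_one_of_irr h5 h6)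
  have key : ∀ w ∈ (S : Subgroup G), w ∉ zpowers u → ∃ v ∈ zpowers u, w = v * a := fun w hw w1 =>
    ⟨w * a⁻¹, mul_mem_of_relIndex_two hi hw (inv_mem ha) w1 (by simpa using a1), by simp⟩
  have h5 : a * u * a⁻¹ ∈ zpowers u := mul_mem_of_relIndex_two hi (mul_mem ha hu) (inv_mem ha)
    (fun e => a1 (by simpa using mul_mem e (inv_mem (mem_zpowers u)))) (by simpa using a1)
  have aa : a * a = 1 := by rw [← sq, ← a2, pow_orderOf_eq_one]
  rcases eq_of_ord4 h4 h5 (by rw [PLoc.orderOf_conj', h4]) with h6 | h6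
  · exfalso
    have hc : Commute a u := mul_inv_eq_iff_eq_mul.1 h6
    have hc' : ∀ v ∈ zpowers u, Commute v a := by
      rintro _ ⟨i, rfl⟩; exact (hc.zpow_right i).symm
    have hc'' : ∀ v ∈ zpowers u, ∀ w ∈ zpowers u, Commute v w := by
      rintro _ ⟨i, rfl⟩ _ ⟨j, rfl⟩; exact zpow_mul_comm u i j
    have hcomm : IsMulCommutative (S : Subgroup G) := isMulCommutative_of_forall fun x hx y hy => by
      by_cases h1 : x ∈ zpowers u <;> by_cases h3 : y ∈ zpowers u
      · exact hc'' x h1 y h3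
      · obtain ⟨v, hv, rfl⟩ := key y hy h3
        exact (hc'' x h1 v hv).mul_right (hc' x h1)
      · obtain ⟨v, hv, rfl⟩ := key x hx h1
        exact ((hc'' y h3 v hv).mul_right (hc' y h3)).symm
      · obtain ⟨v, hv, rfl⟩ := key y hy h3
        obtain ⟨w, hw, rfl⟩ := key x hx h1
        exact ((hc'' w hw v hv).mul_right (hc' w hw)).mul_left
          ((hc' v hv).symm.mul_right (Commute.refl a))
    obtain ⟨g, hg⟩ := conj_into hG S hi a2
    obtain ⟨n, hn, e⟩ := controlsFusion_normalizer_of_comm S hcomm a ha g (zpowers_le.2 hu hg)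
    rw [eq_of_ord2 h4 hg (by rw [PLoc.orderOf_conj', a2])] at e
    have h7 := conj_mem_of_mem_normalizer' hn hu
    have h8 : a = (n⁻¹ * u * n) * (n⁻¹ * u * n) := by
      rw [show a = n⁻¹ * (n * a * n⁻¹) * n by group, e, sq]; group
    by_cases h9 : n⁻¹ * u * n ∈ zpowers u
    · exact a1 (h8 ▸ mul_mem h9 h9)
    · exact a1 (h8 ▸ mul_mem_of_relIndex_two hi h7 h7 h9 h9)
  · refine ⟨h, hu, h4, fun w hw w1 => ?_⟩
    obtain ⟨_, ⟨i, rfl⟩, rfl⟩ := key w hw w1
    refine orderOf_eq_prime ?_ fun e => w1 (e ▸ one_mem _)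
    have : a * u ^ i * a⁻¹ = (u ^ i)⁻¹ := by rw [← conj_zpow, h6, inv_zpow]
    rw [sq, show u ^ i * a * (u ^ i * a) = u ^ i * (a * u ^ i * a⁻¹) * (a * a) by group, this, aa]
    simp

theorem exists_d8' [IsSimpleGroup G] (hG : ¬ IsMulCommutative G) (S : Sylow 2 G)
    (h : Nat.card S = 8) (h7 : ¬ 7 ∣ Nat.card (normalizer ((S : Subgroup G) : Set G))) :
    ∃ u, D8 (S : Subgroup G) u := by
  have h2 : 2 ∣ Nat.card G := (by norm_num : 2 ∣ 8).trans (h ▸ card_subgroup_dvd_card _)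
  by_cases h4 : ∃ u ∈ (S : Subgroup G), orderOf u = 4
  · obtain ⟨u, hu, h4⟩ := h4
    exact ⟨u, d8_of_ord4 hG S h hu h4⟩
  exfalso
  push Not at h4
  have hsq : ∀ w ∈ (S : Subgroup G), w * w = 1 := fun w hw => by
    have h1 := orderOf_dvd_card_of_mem hw
    rw [h, show 8 = 2 ^ 3 by norm_num, Nat.dvd_prime_pow Nat.prime_two] at h1
    obtain ⟨i, hi, h1⟩ := h1
    rw [← sq, ← orderOf_dvd_iff_pow_eq_one, h1]
    interval_cases i
    · norm_num
    · norm_num
    · exact absurd h1 (h4 w hw)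
    · exact absurd (by rw [orderOf_pow, h1]; norm_num) (h4 _ (pow_mem hw 2))
  have hcomm : IsMulCommutative (S : Subgroup G) := isMulCommutative_of_forall fun x hx y hy => by
    have h1 : ∀ w ∈ (S : Subgroup G), w⁻¹ = w := fun w hw => inv_eq_of_mul_eq_one_right (hsq w hw)
    rw [← h1 _ (mul_mem hx hy), mul_inv_rev, h1 x hx, h1 y hy]
  have hSC := le_centralizer_iff_isMulCommutative.mpr hcomm
  obtain ⟨R, hR⟩ := exists_isSylowOf 3 (normalizer ((S : Subgroup G) : Set G))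
  have h1 := card_modEq_card_inf_centralizer hR.isP hR.le
  have h3 : normalizer ((S : Subgroup G) : Set G) ≤ R ⊔ centralizer ((S : Subgroup G) : Set G) := by
    rw [← hR.sup_pResOf]
    refine sup_le_sup_left (pResOf_le_iff.2 fun g hg ho => mem_of_forall_prime_pow ho
      fun l hl l3 x hx ⟨k, hk⟩ => ?_) _
    have := Fact.mk hl
    have hQ := zpowers_le.2 (zpowers_le.2 hg hx)
    have hQl := isPGroup_zpowers hk
    by_contra hc
    by_cases l2 : l = 2
    · subst l2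
      exact hc (hSC ((isSylowOf_top S).le_of_le_normalizer hQl le_top hQ (mem_zpowers x)))
    rcases three_or_seven h.dvd l2 hQl hQ (fun e => hc (e (mem_zpowers x))) with rfl | ⟨rfl, -⟩
    · exact l3 dvd_rfl
    · exact h7 ((hQl.card_eq_or_dvd.resolve_left fun e => hc (by
        rw [Nat.card_zpowers, orderOf_eq_one_iff] at e; rw [e]; exact one_mem _)).trans
        (card_dvd_of_le hQ))
  have h5 := (fitting_decomp hcomm (A := normalizer ((S : Subgroup G) : Set G)) le_rfl (by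
    rw [h, show 8 = 2 ^ 3 by norm_num]
    exact Nat.Coprime.pow_right _ ((isSylowOf_sylow S le_normalizer).coprime_relIndex.coprime_dvd_left
      (relIndex_dvd_of_le_left _ hSC)))).1
  have h6 := (controlsFusion_normalizer_of_comm S hcomm).commutator_inf_le
  rw [commutator_eq_top_of_simple hG, top_inf_eq] at h6
  have h8 : (S : Subgroup G) ⊓ centralizer (R : Set G) = ⊥ := by
    rw [eq_bot_iff, ← h5]
    refine le_inf (le_inf inf_le_left (le_centralizer_iff.1 (h3.trans (sup_le ?_ ?_))))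
      (inf_le_left.trans h6)
    · exact le_centralizer_iff.1 inf_le_right
    · exact centralizer_le (SetLike.coe_subset_coe.2 inf_le_left)
  rw [h8, card_bot, h] at h1
  exact absurd h1 (by decide)

theorem exists_d8 [IsSimpleGroup G] (hG : ¬ IsMulCommutative G) (S : Sylow 2 G)
    (h : Nat.card S = 8) (h7 : ¬ 7 ∣ Nat.card G) : ∃ u, D8 (S : Subgroup G) u :=
  exists_d8' hG S h fun e => h7 (e.trans (card_subgroup_dvd_card _))

theorem sum_nat {χ : G → ℂ} (hχ : IsCharacter G χ) (H : Subgroup G) {T : Finset G}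
    (hT : ∀ g, g ∈ T ↔ g ∈ H) : ∃ k : ℕ, ∑ g ∈ T, χ g = Nat.card H * k := by
  have := Fintype.ofFinite H
  obtain ⟨k, hk⟩ := (hχ.restrict H).classInner_nat isCharacter_one
  refine ⟨k, ?_⟩
  rw [classInner_one_right] at hk
  rw [sum_subtype T hT, ← hk, mul_inv_cancel_left₀ (card_ne_zero H)]

namespace D8

variable {S : Subgroup G} {u : G}

theorem conj_eq (h : D8 S u) {w : G} (hw : w ∈ S) (h1 : w ∉ zpowers u) : w * u * w⁻¹ = u⁻¹ := by
  have h2 := h.out w hw h1
  have h3 := h.out _ (mul_mem hw h.mem) (by rwa [mul_mem_cancel_right (mem_zpowers u)])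
  rw [ord2_iff] at h2 h3
  rw [inv_eq_of_mul_eq_one_right h2.1, eq_inv_iff_mul_eq_one, mul_assoc, h3.1]

theorem exists_out (h : D8 S u) : ∃ w ∈ S, w ∉ zpowers u := by
  by_contra hc
  push Not at hc
  have := card_le_of_le (show S ≤ zpowers u from hc)
  rw [Nat.card_zpowers, h.ord, h.card] at this
  omega

theorem conj_inv (h : D8 S u) : IsConj u u⁻¹ := by
  obtain ⟨w, hw, h1⟩ := h.exists_out
  exact isConj_iff.2 ⟨w, h.conj_eq hw h1⟩

theorem ne_inv (h : D8 S u) : u ≠ u⁻¹ := fun e => by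
  have : orderOf u ∣ 2 := orderOf_dvd_of_pow_eq_one (by rw [sq]; exact mul_eq_one_iff_eq_inv.2 e)
  rw [h.ord] at this
  omega

theorem comm_sq (h : D8 S u) {w : G} (hw : w ∈ S) : w * u ^ 2 = u ^ 2 * w := by
  by_cases h1 : w ∈ zpowers u
  · obtain ⟨i, rfl⟩ := h1
    exact ((Commute.refl u).zpow_left i).pow_right 2
  · rw [← mul_inv_eq_iff_eq_mul, ← conj_pow, h.conj_eq hw h1, inv_pow, inv_eq_iff_mul_eq_one,
      ← pow_add]
    exact orderOf_dvd_iff_pow_eq_one.1 h.ord.dvd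

theorem ord_cases (h : D8 S u) {w : G} (hw : w ∈ S) :
    w = 1 ∨ w = u ∨ w = u⁻¹ ∨ orderOf w = 2 := by
  by_cases h1 : w ∈ zpowers u
  · rcases ord4_cases h.ord h1 with e | e | e | e
    · exact Or.inl e
    · exact Or.inr (Or.inl e)
    · exact Or.inr (Or.inr (Or.inr (e ▸ ord_sq_of_ord4 h.ord)))
    · exact Or.inr (Or.inr (Or.inl e))
  · exact Or.inr (Or.inr (Or.inr (h.out w hw h1)))

theorem sum (h : D8 S u) {χ : G → ℂ} (hχ : IsCharacter G χ) {m : ℂ}
    (hm : ∀ w ∈ S, orderOf w = 2 → χ w = m) : ∃ k : ℕ, χ 1 + 2 * χ u + 5 * m = 8 * k := by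
  classical
  have := Fintype.ofFinite G
  obtain ⟨k, hk⟩ := sum_nat hχ S (T := univ.filter (· ∈ S)) (by simp)
  have u1 : u ≠ 1 := fun e => by simpa [e] using h.ord
  have h1 : ({1, u, u⁻¹} : Finset G) ⊆ univ.filter (· ∈ S) := by
    simp [insert_subset_iff, h.mem]
  have h2 : ({1, u, u⁻¹} : Finset G).card = 3 := card_eq_three.2
    ⟨_, _, _, u1.symm, by simpa [eq_comm] using u1, h.ne_inv, rfl⟩
  have h3 : (univ.filter (· ∈ S)).card = 8 := by
    rw [← h.card, Nat.card_eq_fintype_card, Fintype.card_subtype]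
  rw [← sum_sdiff h1, sum_congr rfl (g := fun _ => m) fun w hw => by
      simp only [mem_sdiff, mem_filter, mem_univ, true_and, mem_insert, mem_singleton, not_or] at hw
      exact hm w hw.1 (by have := h.ord_cases hw.1; tauto), sum_const, card_sdiff_of_subset h1, h2,
    h3, sum_insert (by simp [u1, u1.symm]), sum_pair h.ne_inv,
    ← hχ.isClassFunction.of_isConj h.conj_inv, h.card] at hk
  refine ⟨k, ?_⟩
  simp only [nsmul_eq_mul] at hk
  push_cast at hk
  linear_combination hk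

theorem int (h : D8 S u) {χ : G → ℂ} (hχ : IsCharacter G χ) : ∃ n : ℤ, χ u = n := by
  refine hχ.isGen.exists_int_of_pow u fun m hm => ?_
  rcases eq_of_ord4 h.ord (npow_mem_zpowers u m) (by rw [hm.symm.orderOf_pow, h.ord]) with e | e
  · rw [e]
  · rw [e, ← hχ.isClassFunction.of_isConj h.conj_inv]

variable {S : Sylow 2 G}

theorem conj2 [IsSimpleGroup G] (hG : ¬ IsMulCommutative G) (h : D8 (S : Subgroup G) u) {s : G}
    (hs : orderOf s = 2) : IsConj s (u ^ 2) := by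
  obtain ⟨g, hg⟩ := conj_into hG S (relIndex_ord4 h.card h.mem h.ord) hs
  exact isConj_iff.2 ⟨g, eq_of_ord2 h.ord hg (by rw [PLoc.orderOf_conj', hs])⟩

theorem conj4 (h : D8 (S : Subgroup G) u) {s : G} (hs : orderOf s = 4) : IsConj s u := by
  obtain ⟨a, ha, h1, h2⟩ := exists_isConj_mem_sylow S (k := 2) hs
  rcases h.ord_cases ha with e | e | e | e
  · simp [e] at h2
  · exact e ▸ h1.symm
  · exact h1.symm.trans (e ▸ h.conj_inv.symm)
  · omega

theorem npc (h : D8 (S : Subgroup G) u) {t : G} (ht : orderOf t = 2) :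
    NPC 2 (centralizer ({t} : Set G)) := by
  obtain ⟨e⟩ := Class.dihedral_of_index_two (G := (S : Subgroup G)) (c := ⟨u, h.mem⟩) (by
    refine Eq.trans ?_ (relIndex_ord4 h.card h.mem h.ord)
    rw [relIndex]
    congr 1
    ext x
    simp [mem_subgroupOf, mem_zpowers_iff, Subtype.ext_iff]) fun s hs =>
      Subtype.ext (ord2_iff.1 (h.out s s.2 fun ⟨i, hi⟩ => hs ⟨i, Subtype.ext hi⟩)).1
  obtain ⟨N, h1, h2, h3⟩ := S0514.result S _ (by rw [orderOf_mk, h.ord]; norm_num) ⟨e⟩ t ht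
  have := (npc_of_normal (p := 2) (H := ⊤) (N := N) (by rw [normalizer_eq_top])
    (Nat.coprime_two_right.2 h2) (by rwa [relIndex_top_right])).map (Subgroup.subtype _)
  rwa [← MonoidHom.range_eq_map, range_subtype] at this

theorem sylow_cent_sq (h : D8 (S : Subgroup G) u) :
    IsSylowOf 2 (S : Subgroup G) (centralizer ({u ^ 2} : Set G)) :=
  isSylowOf_sylow S fun w hw => mem_centralizer_singleton_iff.2 (h.comm_sq hw)

theorem sylow_cent (h : D8 (S : Subgroup G) u) :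
    IsSylowOf 2 (zpowers u) (centralizer ({u} : Set G)) := by
  have h1 : zpowers u ≤ centralizer ({u} : Set G) :=
    zpowers_le.2 (mem_centralizer_singleton_iff.2 rfl)
  obtain ⟨T, hT, h2⟩ := exists_isSylowOf_ge (isPGroup_zpowers (p := 2) (k := 2)
    (orderOf_dvd_iff_pow_eq_one.1 h.ord.dvd)) h1
  obtain ⟨g, -, hg⟩ := (isSylowOf_top S).exists_cj_le hT.isP le_top
  have h3 : ∀ x ∈ T, g * x * g⁻¹ ∈ (S : Subgroup G) := fun x hx => hg (by simpa [mul_assoc] using hx)
  suffices T ≤ zpowers u by rwa [le_antisymm h2 this]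
  intro x hx
  have h4 : Commute (g * x * g⁻¹) (g * u * g⁻¹) := by
    have := mem_centralizer_singleton_iff.1 (hT.le hx)
    simp only [Commute, SemiconjBy, conj_mul, this]
  have h5 : orderOf (g * u * g⁻¹) = 4 := by rw [PLoc.orderOf_conj', h.ord]
  have h6 : g * u * g⁻¹ = u ∨ g * u * g⁻¹ = u⁻¹ := by
    rcases h.ord_cases (h3 u (h2 (mem_zpowers u))) with e | e | e | e
    · simp [e] at h5
    · exact Or.inl e
    · exact Or.inr e
    · omega
  have h7 : g * x * g⁻¹ ∈ zpowers (g * u * g⁻¹) := by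
    have h8 : Commute (g * x * g⁻¹) u ∧ zpowers (g * u * g⁻¹) = zpowers u := by
      rcases h6 with e | e <;> rw [e] at h4 ⊢
      · exact ⟨h4, rfl⟩
      · exact ⟨Commute.inv_right_iff.1 h4, zpowers_inv⟩
    rw [h8.2]
    by_contra h9
    exact h.ne_inv ((mul_inv_eq_iff_eq_mul.2 h8.1).symm.trans (h.conj_eq (h3 x hx) h9))
  obtain ⟨i, hi⟩ := h7
  exact ⟨i, by simpa using hi⟩

theorem blk [IsSimpleGroup G] (hG : ¬ IsMulCommutative G) (h : D8 (S : Subgroup G) u) :
    ∃ (b c d : IrrCharacter G) (x y z : ℤ), b ≠ irrOne G ∧ c ≠ irrOne G ∧ d ≠ irrOne G ∧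
      (x = 1 ∨ x = -1) ∧ (y = 1 ∨ y = -1) ∧ (z = 1 ∨ z = -1) ∧
      x * charDegree (b : G → ℂ) % 8 = 1 ∧ y * charDegree (c : G → ℂ) % 8 = 3 ∧
      z * charDegree (d : G → ℂ) % 8 = 3 ∧
      1 + x * charDegree (b : G → ℂ) + y * charDegree (c : G → ℂ) +
        z * charDegree (d : G → ℂ) = 0 := by
  classical
  obtain ⟨M, hM⟩ := exists_isPModular 2 Nat.prime_two
  have : PMod 2 M := ⟨hM⟩
  have t2 := ord_sq_of_ord4 h.ord
  have u1 : u ≠ 1 := fun e => by simpa [e] using h.ord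
  have pu : ∃ k, orderOf u = 2 ^ k := ⟨2, h.ord⟩
  have pt : ∃ k, orderOf (u ^ 2) = 2 ^ k := ⟨1, t2⟩
  choose n hn using fun χ : IrrCharacter G => h.int χ.2.isCharacter
  choose m hm hm' using fun χ : IrrCharacter G => S0944.result χ _ t2
  have a1 := principal_sum_sq (M := M) pu u1 ((h.npc t2).mono fun g hg =>
    mem_centralizer_singleton_iff.2 (Commute.pow_right (mem_centralizer_singleton_iff.1 hg) 2))
  have a2 := principal_sum_sq (M := M) pt (ne_one_of_ord2 t2) (h.npc t2)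
  rw [← h.sylow_cent.card_eq, Nat.card_zpowers, h.ord] at a1
  rw [← h.sylow_cent_sq.card_eq, h.card] at a2
  simp only [hn, hm, Complex.norm_intCast, sq_abs] at a1 a2
  have n1 : n (irrOne G) = 1 := Int.cast_eq_one.mp (hn (irrOne G)).symm
  have m1 : m (irrOne G) = 1 := Int.cast_eq_one.mp (hm (irrOne G)).symm
  have sf : ∀ f : IrrCharacter G → ℤ, ∑ χ ∈ (univ.filter (· ∈ principalBlock M G)).filter
      (n · ≠ 0), n χ * f χ = ∑ χ ∈ univ.filter (· ∈ principalBlock M G), n χ * f χ := fun f =>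
    sum_filter_of_ne fun χ _ e e' => e (by rw [e', zero_mul])
  obtain ⟨h4, b, c, d, h5, n2, n3, n4, n5, n6, n7⟩ := exists_four (n := n)
    (s := (univ.filter (· ∈ principalBlock M G)).filter (n · ≠ 0)) (a := irrOne G)
    (by simp [n1, irrOne_mem_principal]) n1 (fun χ hχ => (mem_filter.1 hχ).2)
    (by simp only [sq, sf]; simp only [← sq]; exact_mod_cast a1)
  have ex : ∀ f : IrrCharacter G → ℤ, ∑ χ ∈ ({irrOne G, b, c, d} : Finset _), f χ =
      f (irrOne G) + f b + f c + f d := fun f => by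
    rw [sum_insert (by simp [n2, n3, n4]), sum_insert (by simp [n5, n6]), sum_pair n7]; ring
  have b1 := block_orth (isPBlock_principal (M := M)) (ppart_self Fact.out pu)
    (ppart_self Fact.out pt) fun e => by have := Inv.orderOf_isConj e; rw [t2, h.ord] at this; omega
  have b2 := block_orth (isPBlock_principal (M := M)) (ppart_self Fact.out pu)
    (ppart_self Fact.out (x := 1) ⟨0, by simp⟩) fun e => u1 (isConj_one_left.1 e)
  rw [finsum_mem_irr] at b1 b2
  simp only [hn, hm, irr_one_eq, map_intCast, map_natCast] at b1 b2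
  have b3 := (sf m).trans (by exact_mod_cast b1 : _ = (0 : ℤ))
  have b4 := (sf fun χ => charDegree (χ : G → ℂ)).trans (by exact_mod_cast b2 : _ = (0 : ℤ))
  have b5 : ∑ χ ∈ (univ.filter (· ∈ principalBlock M G)).filter (n · ≠ 0), m χ ^ 2 ≤ 8 :=
    (sum_le_sum_of_subset_of_nonneg (filter_subset _ _) fun _ _ _ => sq_nonneg _).trans
      (by exact_mod_cast a2.le)
  rw [h5, ex] at b3 b4 b5
  simp only [n1, m1, deg_irrOne] at b3 b4 b5
  have c1 : ∀ χ : IrrCharacter G, (n χ = 1 ∨ n χ = -1) → m χ % 2 = 1 ∧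
      (charDegree (χ : G → ℂ) + 2 * n χ + 5 * m χ) % 8 = 0 := fun χ hχ => by
    obtain ⟨k, hk⟩ := h.sum χ.2.isCharacter (m := m χ) fun w _ hw => by
      rw [χ.2.isClassFunction.of_isConj (h.conj2 hG hw), hm]
    obtain ⟨j, hj⟩ := h.int χ.2.isCharacter.sym
    simp only [← sq, hn, hm, irr_one_eq] at hk hj
    have e1 : charDegree (χ : G → ℂ) + 2 * n χ + 5 * m χ = 8 * k := by exact_mod_cast hk
    have e2 : n χ ^ 2 + m χ = 2 * j := by
      apply Int.cast_injective (α := ℂ); push_cast; linear_combination 2 * hj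
    refine ⟨?_, by omega⟩
    rcases hχ with e | e <;> rw [e] at e2 <;> omega
  have hb := h4 b (by simp [h5])
  have hc := h4 c (by simp [h5])
  have hd := h4 d (by simp [h5])
  have c2 : ∀ a : ℤ, a % 2 = 1 → a ^ 2 ≤ 5 → a = 1 ∨ a = -1 := fun a a1 a2 => by
    have : a ≤ 2 := by nlinarith
    have : -2 ≤ a := by nlinarith
    omega
  have c3 : ∀ a : ℤ, a % 2 = 1 → 1 ≤ a ^ 2 := fun a a1 => by
    have : a ≠ 0 := by omega
    exact (one_le_sq_iff_one_le_abs a).2 (Int.one_le_abs this)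
  obtain ⟨b6, b7⟩ := c1 b hb
  obtain ⟨c6, c7⟩ := c1 c hc
  obtain ⟨d6, d7⟩ := c1 d hd
  have := c3 _ b6
  have := c3 _ c6
  have := c3 _ d6
  have c4 : ∀ χ : IrrCharacter G, (n χ = 1 ∨ n χ = -1) → (m χ = 1 ∨ m χ = -1) →
      (charDegree (χ : G → ℂ) + 2 * n χ + 5 * m χ) % 8 = 0 →
      n χ * m χ = 1 ∧ n χ * charDegree (χ : G → ℂ) % 8 = 1 ∨
      n χ * m χ = -1 ∧ n χ * charDegree (χ : G → ℂ) % 8 = 3 := fun χ e1 e2 e3 => by
    rcases e1 with e1 | e1 <;> rcases e2 with e2 | e2 <;> rw [e1, e2] at e3 ⊢ <;> omega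
  rcases c4 b hb (c2 _ b6 (by omega)) b7 with ⟨e1, f1⟩ | ⟨e1, f1⟩ <;>
  rcases c4 c hc (c2 _ c6 (by omega)) c7 with ⟨e2, f2⟩ | ⟨e2, f2⟩ <;>
  rcases c4 d hd (c2 _ d6 (by omega)) d7 with ⟨e3, f3⟩ | ⟨e3, f3⟩ <;> try omega
  · exact ⟨b, c, d, _, _, _, n2.symm, n3.symm, n4.symm, hb, hc, hd, f1, f2, f3, by omega⟩
  · exact ⟨c, b, d, _, _, _, n3.symm, n2.symm, n4.symm, hc, hb, hd, f2, f1, f3, by omega⟩
  · exact ⟨d, b, c, _, _, _, n4.symm, n2.symm, n3.symm, hd, hb, hc, f3, f1, f2, by omega⟩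

end D8

def d8OK (n : ℕ) : Bool :=
  (cand n).any fun a => decide (a % 8 = 1) && (cand n).any fun b => decide (b % 8 = 3) &&
    (cand n).any fun c => decide (c % 8 = 3) && decide (1 + a + b + c = 0)

theorem d8OK_card [IsSimpleGroup G] (hG : ¬ IsMulCommutative G) (hn : Nat.card G < 6400)
    (h8 : 8 ∣ Nat.card G) (h16 : ¬ 16 ∣ Nat.card G) (h7 : ¬ 7 ∣ Nat.card G) :
    d8OK (Nat.card G) = true := by
  obtain ⟨S⟩ : Nonempty (Sylow 2 G) := inferInstance
  obtain ⟨u, h⟩ := exists_d8 hG S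
    (Nat.dvd_antisymm (sylow_card_dvd S (k := 3) h16) (dvd_sylow_card S (k := 3) h8)) h7
  obtain ⟨b, c, d, x, y, z, h1, h2, h3, h4, h5, h6, e1, e2, e3, e4⟩ := h.blk hG
  simp only [d8OK, List.any_eq_true, Bool.and_eq_true, decide_eq_true_eq]
  exact ⟨_, mem_cand hG hn h1 h4, e1, _, mem_cand hG hn h2 h5, e2, _, mem_cand hG hn h3 h6, e3, e4⟩

end Cfsg.Agent.H9
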