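import Cfsg.Agent.H9.Sm7

/-! The simple group of order `2520`. -/

set_option autoImplicit false
set_option linter.unusedVariables false
set_option linter.unusedSectionVars false

namespace Cfsg.Agent.H9

open Finset Subgroup Cfsg.Agent.PLoc Cfsg.Agent.Char Cfsg.Agent.Blk Cfsg.Agent.Inv

universe u

variable {G : Type u} [Group G] [Finite G]

def degs (L : List ℤ) : List ℕ := (1 + L.sum).natAbs :: L.map Int.natAbs

theorem exists_tree [IsSimpleGroup G] (hG : ¬ IsMulCommutative G) (hn : Nat.card G < 6400) {p : ℕ}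
    [hp : Fact p.Prime] {x : G} (h : Syl1 p x) : ∃ T ∈ trees (Nat.card G) p,
      (∀ d ∈ degs T.2.2.2, ∃ χ : IrrCharacter G, χ ≠ irrOne G ∧ charDegree (χ : G → ℂ) = d) ∧
      (SC p x → ∀ χ : IrrCharacter G, χ ≠ irrOne G → ¬ p ∣ charDegree (χ : G → ℂ) →
        charDegree (χ : G → ℂ) ∈ degs T.2.2.2) := by
  classical
  obtain ⟨M, hM⟩ := exists_isPModular p hp.out
  have : PMod p M := ⟨hM⟩
  obtain ⟨N, δ, ε, μ, D⟩ := h.exists_D1 (M := M)
  obtain ⟨L, h1, h2, hL⟩ := tree_mem hG hn D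
  have h3 : ∀ a, a ∈ L ↔ ∃ χ ∈ N.erase (irrOne G), δ χ * charDegree (χ : G → ℂ) = a := fun a => by
    rw [← Multiset.mem_coe, h1, Multiset.mem_map]; rfl
  refine ⟨_, hL, fun d hd => ?_, fun hs χ h4 h5 => ?_⟩
  · simp only [degs, List.mem_cons, List.mem_map] at hd
    rcases hd with rfl | ⟨a, ha, rfl⟩
    · exact ⟨μ 1, D.ne_one 1, by rw [h2, natAbs_sign D.ε_val]⟩
    · obtain ⟨χ, h4, rfl⟩ := (h3 a).1 ha
      exact ⟨χ, ne_of_mem_erase h4, (natAbs_sign (D.δ_val χ (mem_of_mem_erase h4)) _).symm⟩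
  · simp only [degs, List.mem_cons, List.mem_map]
    have h6 : χ ∈ PB M G := by_contra fun e => h5 (by
      have := dvd_of_vanish χ.2.isGen (zpowers x) (n := charDegree (χ : G → ℂ)) (fun g hg g1 => by
        obtain ⟨i, rfl⟩ := exists_pw h.ord hg
        exact hs.not_PB e fun e => g1 (e ▸ pw_zero)) (by simp [irr_one_eq])
      rw [Nat.card_zpowers, h.ord] at this
      exact_mod_cast this)
    rcases D.cases χ h6 with e | ⟨j, rfl⟩
    · exact Or.inr ⟨_, (h3 _).2 ⟨χ, mem_erase.2 ⟨h4, e⟩, rfl⟩, natAbs_sign (D.δ_val χ e) _⟩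
    · exact Or.inl (by rw [h2, natAbs_sign D.ε_val, D.deg_exc_eq j])

theorem card_modEq_of_sc {l : ℕ} [hl : Fact l.Prime] (h : ∀ x : G, orderOf x = l → SC l x)
    {Q : Subgroup G} (hQ : ¬ l ∣ Nat.card Q) (hN : l ∣ Nat.card (normalizer (Q : Set G))) :
    Nat.card Q ≡ 1 [MOD l] := by
  obtain ⟨x, hx, ho⟩ := exists_mem_orderOf_eq_prime hl.out hN
  have h1 := card_modEq_card_inf_centralizer (h x ho).syl1.isP (zpowers_le.2 hx)
  rwa [centralizer_zpowers, (h x ho).cent, (eq_bot_iff_forall (Q ⊓ zpowers x)).2 fun g hg =>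
    by_contra fun g1 => hQ (orderOf_eq_prime ((h x ho).pow_p hg.2) g1 ▸ orderOf_dvd_card_of_mem hg.1), card_bot] at h1

section rep

variable {n : ℕ} (ρ : Representation ℂ G (Fin n → ℂ))

/-- the vectors fixed by a subgroup -/
noncomputable def fx (H : Subgroup G) : Submodule ℂ (Fin n → ℂ) :=
  Representation.invariants (ρ.comp H.subtype)

theorem mem_fx {H : Subgroup G} {v : Fin n → ℂ} : v ∈ fx ρ H ↔ ∀ h ∈ H, ρ h v = v :=
  ⟨fun h g hg => h ⟨g, hg⟩, fun h g => h g g.2⟩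

theorem fx_anti {H K : Subgroup G} (h : H ≤ K) : fx ρ K ≤ fx ρ H :=
  fun v hv => (mem_fx ρ).2 fun g hg => (mem_fx ρ).1 hv g (h hg)

/-- the dimension of the fixed space -/
noncomputable def fd (H : Subgroup G) : ℕ := Module.finrank ℂ (fx ρ H)

theorem fd_anti {H K : Subgroup G} (h : H ≤ K) : fd ρ K ≤ fd ρ H :=
  Submodule.finrank_mono (fx_anti ρ h)

theorem sum_fd (H : Subgroup G) {T : Finset G} (hT : ∀ g, g ∈ T ↔ g ∈ H) :
    ∑ g ∈ T, ρ.character g = Nat.card H * fd ρ H := by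
  have := Fintype.ofFinite H
  have := invertibleOfNonzero (card_ne_zero H)
  rw [sum_subtype T hT, fd, fx, ← Representation.card_inv_mul_sum_char_eq_finrank,
    mul_inv_cancel_left₀ (card_ne_zero H)]
  rfl

theorem fd_bot : (fd ρ ⊥ : ℂ) = ρ.character 1 := by
  have := sum_fd ρ ⊥ (T := {1}) (by simp)
  simpa using this.symm

open Classical in
theorem fd_sdiff [Fintype G] {H K : Subgroup G} (h : H ≤ K) : (Nat.card K * fd ρ K : ℂ) =
    Nat.card H * fd ρ H + ∑ g ∈ univ.filter (· ∈ K) \ univ.filter (· ∈ H), ρ.character g := by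
  rw [← sum_fd ρ K (T := univ.filter (· ∈ K)) (by simp),
    ← sum_fd ρ H (T := univ.filter (· ∈ H)) (by simp), add_comm, sum_sdiff]
  exact monotone_filter_right _ fun g _ hg => h hg

theorem fd_step {H K : Subgroup G} (h : H ≤ K) {c : ℤ}
    (hc : ∀ g ∈ K, g ∉ H → ρ.character g = c) {a b : ℕ} (ha : Nat.card H = a) (hb : Nat.card K = b) :
    (b * fd ρ K : ℤ) = a * fd ρ H + (b - a) * c := by
  classical
  have := Fintype.ofFinite G
  have h1 := fd_sdiff ρ h
  have h2 : ∀ X : Subgroup G, (univ.filter (· ∈ X)).card = Nat.card X := fun X => by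
    rw [Nat.card_eq_fintype_card, Fintype.card_subtype]
  rw [sum_congr rfl (g := fun _ => (c : ℂ)) fun g hg => by
      simp only [mem_sdiff, mem_filter, mem_univ, true_and] at hg
      exact hc g hg.1 hg.2, sum_const, card_sdiff_of_subset
      (monotone_filter_right _ fun g _ hg => h hg), h2, h2, nsmul_eq_mul,
      Nat.cast_sub (card_le_of_le h), ha, hb] at h1
  exact_mod_cast h1

/-- the stabilizer of a vector -/
def vst (v : Fin n → ℂ) : Subgroup G where
  carrier := {g | ρ g v = v}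
  one_mem' := by simp
  mul_mem' := fun {a b} ha hb => by
    simp only [Set.mem_setOf_eq] at *
    rw [map_mul, Module.End.mul_apply, hb, ha]
  inv_mem' := fun {a} ha => by
    simp only [Set.mem_setOf_eq] at *
    rw [← ha, ← Module.End.mul_apply, ← map_mul, inv_mul_cancel, map_one, ha]; rfl

theorem d8_dims {S : Subgroup G} {u : G} (h : D8 S u) {m k : ℤ}
    (hm : ∀ t, orderOf t = 2 → ρ.character t = m) (hk : ∀ t, orderOf t = 4 → ρ.character t = k) :
    (2 * fd ρ (zpowers (u ^ 2)) : ℤ) = fd ρ ⊥ + m ∧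
    (4 * fd ρ (zpowers u) : ℤ) = fd ρ ⊥ + m + 2 * k ∧
    (8 * fd ρ S : ℤ) = fd ρ ⊥ + 5 * m + 2 * k ∧ ∃ d : ℕ, (4 * d : ℤ) = fd ρ ⊥ + 3 * m := by
  have t2 := ord_sq_of_ord4 h.ord
  have c2 : Nat.card (zpowers (u ^ 2)) = 2 := by rw [Nat.card_zpowers, t2]
  have c4 : Nat.card (zpowers u) = 4 := by rw [Nat.card_zpowers, h.ord]
  have h1 := fd_step ρ (bot_le (a := zpowers (u ^ 2))) (c := m) (fun g hg g1 => hm g (by
    rcases (mem_zpowers_ord2 (ord2_iff.1 t2).1).1 hg with e | e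
    · exact absurd e g1
    · rw [e, t2])) card_bot c2
  have h2 := fd_step ρ (zpowers_le.2 (npow_mem_zpowers u 2)) (c := k) (fun g hg g1 => hk g (by
    rcases ord4_cases h.ord hg with e | e | e | e
    · exact absurd (e ▸ one_mem _) g1
    · rw [e, h.ord]
    · exact absurd (e ▸ mem_zpowers _) g1
    · rw [e, orderOf_inv, h.ord])) c2 c4
  have h3 := fd_step ρ (zpowers_le.2 h.mem) (c := m) (fun g hg g1 => hm g (h.out g hg g1)) c4 h.card
  obtain ⟨w, hw, w1⟩ := h.exists_out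
  have h4 := fd_step ρ (bot_le (a := zpowers (u ^ 2) ⊔ zpowers w)) (c := m)
    (fun g hg g1 => hm g (kf_ord (h.kf hw w1) hg g1)) card_bot (kf_card (h.kf hw w1))
  push_cast at *
  exact ⟨by omega, by omega, by omega, fd ρ (zpowers (u ^ 2) ⊔ zpowers w), by omega⟩

end rep

section

variable [IsSimpleGroup G] (h : Nat.card G = 2520)
include h

theorem nc2520 : ¬ IsMulCommutative G := not_comm_of_simple (by rw [h]; norm_num)

theorem sc5_2520 {x : G} (hx : orderOf x = 5) :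
    SC 5 x ∧ Nat.card (autSub (hp := ⟨by norm_num⟩) hx) = 4 ∧ (Nx x).index = 126 :=
  sc_of_trees (hp := ⟨by norm_num⟩) (nc2520 h) (by omega) (syl1_of_ord hx (by rw [h]; norm_num))
    (by rw [h]; decide +kernel)

theorem sc7_2520 {x : G} (hx : orderOf x = 7) : SC 7 x :=
  (sc_of_trees (hp := ⟨by norm_num⟩) (e := 3) (m := 120) (nc2520 h) (by omega)
    (syl1_of_ord hx (by rw [h]; norm_num)) (by rw [h]; decide +kernel)).1

theorem deg6_2520 : ∃ χ : IrrCharacter G, χ ≠ irrOne G ∧ charDegree (χ : G → ℂ) = 6 := by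
  have : Fact (Nat.Prime 5) := ⟨by norm_num⟩
  have : Fact (Nat.Prime 7) := ⟨by norm_num⟩
  obtain ⟨x, hx⟩ := exists_syl1 (G := G) (p := 5) (by rw [h]; norm_num) (by rw [h]; norm_num)
  obtain ⟨y, hy⟩ := exists_syl1 (G := G) (p := 7) (by rw [h]; norm_num) (by rw [h]; norm_num)
  obtain ⟨T, h1, -, h2⟩ := exists_tree (nc2520 h) (by omega) hx
  obtain ⟨U, h3, h4, -⟩ := exists_tree (nc2520 h) (by omega) hy
  rw [h] at h1 h3
  have k1 : ∀ T ∈ trees 2520 5, 4 ∉ degs T.2.2.2 ∧ 8 ∉ degs T.2.2.2 := by decide +kernel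
  have k2 : ∀ T ∈ trees 2520 7, 4 ∈ degs T.2.2.2 ∨ 8 ∈ degs T.2.2.2 ∨ 6 ∈ degs T.2.2.2 := by
    decide +kernel
  rcases k2 U h3 with e | e | e <;> obtain ⟨χ, h5, h6⟩ := h4 _ e
  · exact absurd (h6 ▸ h2 (sc5_2520 h hx.ord).1 χ h5 (by rw [h6]; norm_num)) (k1 T h1).1
  · exact absurd (h6 ▸ h2 (sc5_2520 h hx.ord).1 χ h5 (by rw [h6]; norm_num)) (k1 T h1).2
  · exact ⟨χ, h5, h6⟩

theorem d8_2520 {u : G} (hu : orderOf u = 4) : ∃ S : Sylow 2 G, D8 (S : Subgroup G) u := by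
  obtain ⟨S, hS⟩ := (isPGroup_zpowers (p := 2) (k := 2)
    (orderOf_dvd_iff_pow_eq_one.1 hu.dvd)).exists_le_sylow
  exact ⟨S, d8_of_ord4 (nc2520 h) S (card_sylow_of_card S (k := 3) (m := 315) h (by norm_num))
    (hS (mem_zpowers u)) hu⟩

theorem F20_2520 : ∃ (x u : G) (D : Subgroup G), orderOf x = 5 ∧ orderOf u = 4 ∧ zpowers x ≤ D ∧
    D ≤ Nx x ∧ Nat.card D = 10 ∧ Nat.card (Nx x) = 20 ∧ (∀ g ∈ D, g ∉ zpowers x → orderOf g = 2) ∧
    (∀ g ∈ Nx x, g ∉ D → orderOf g = 4) ∧ ∀ g ∈ zpowers x, g ≠ 1 → IsConj x g := by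
  have k1 : ∀ a : (ZMod 5)ˣ, a ^ 4 = 1 ∧ (a ^ 2 = 1 → a = 1 ∨ a = -1) := by decide
  have k2 : ∃ a : (ZMod 5)ˣ, a ^ 2 ≠ 1 := by decide
  have k3 : (-1 : (ZMod 5)ˣ) ≠ 1 := by decide
  have : Fact (Nat.Prime 5) := ⟨by norm_num⟩
  obtain ⟨x, hx⟩ := exists_prime_orderOf_dvd_card' (G := G) 5 (by rw [h]; norm_num)
  obtain ⟨h1, h2, -⟩ := sc5_2520 h hx
  have h3 : autSub hx = ⊤ := eq_top_of_card_eq _ (by rw [h2]; simp; rfl)
  obtain ⟨f, h4, h5⟩ := h1.exists_hom
  have h6 : Function.Surjective f := MonoidHom.range_eq_top.1 (h4.trans h3)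
  have h7 : Nat.card (Nx x) = 20 := by rw [h1.card_N, h2]
  have h8 : ∀ g : Nx x, f g ^ 2 ≠ 1 → orderOf (g : G) = 4 := fun g e => by
    rw [← h1.orderOf_eq h5 fun e' => e (by rw [(h5 g).2 e', one_pow])]
    exact orderOf_eq_prime_pow (p := 2) (n := 1) e (k1 _).1
  obtain ⟨a, ha⟩ := k2
  obtain ⟨u, rfl⟩ := h6 a
  have h9 : ∀ a : (ZMod 5)ˣ, a ∈ zpowers (-1 : (ZMod 5)ˣ) ↔ a ^ 2 = 1 := fun a => by
    rw [mem_zpowers_ord2 (by simp)]
    exact ⟨by rintro (rfl | rfl) <;> simp, (k1 a).2⟩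
  refine ⟨x, u, ((zpowers (-1)).comap f).map (Nx x).subtype, hx, h8 u ha, fun g hg =>
    ⟨⟨g, le_normalizer hg⟩, by simp [(h5 ⟨g, le_normalizer hg⟩).2 hg], rfl⟩, map_subtype_le _, ?_, h7,
    ?_, fun g hg e => h8 ⟨g, hg⟩ fun e' => e ⟨⟨g, hg⟩, (h9 _).2 e', rfl⟩, fun g hg g1 => ?_⟩
  · have i1 := ((zpowers (-1)).comap f).index_mul_card
    have i2 := (zpowers (-1 : (ZMod 5)ˣ)).index_mul_card
    rw [Nat.card_zpowers, orderOf_eq_prime (p := 2) (by simp) k3, ← card_top, ← h3, h2] at i2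
    rw [index_comap_of_surjective _ h6, h7] at i1
    rw [card_map_of_injective (Nx x).subtype_injective]
    have : (zpowers (-1 : (ZMod 5)ˣ)).index = 2 := by omega
    rw [this] at i1
    omega
  · rintro _ ⟨g, hg, rfl⟩ e
    exact (h1.orderOf_eq h5 e).symm.trans (orderOf_eq_prime ((h9 _).1 hg) (mt (h5 g).1 e))
  · obtain ⟨i, rfl⟩ := exists_pw hx hg
    have i0 : i ≠ 0 := fun e => g1 (e ▸ pw_zero)
    exact (h3 ▸ mem_top _ : Units.mk0 i i0 ∈ autSub hx)

theorem vals_2520 {n : ℕ} {ρ : Representation ℂ G (Fin n → ℂ)} {χ : IrrCharacter G}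
    (hρ : ρ.character = χ) (h1 : χ ≠ irrOne G) (h6 : charDegree (χ : G → ℂ) = 6) :
    (∀ t, orderOf t = 2 → ρ.character t = (2 : ℤ)) ∧
      ∀ t, orderOf t = 4 → ρ.character t = (0 : ℤ) := by
  obtain ⟨x, u, D, a1, a2, a3, a4, a5, a6, a7, a8, a9⟩ := F20_2520 h
  obtain ⟨S, hS⟩ := d8_2520 h a2
  have t2 := ord_sq_of_ord4 a2
  obtain ⟨k, hk⟩ := hS.int χ.2.isCharacter
  obtain ⟨m, hm, -⟩ := S0944.result χ _ t2
  obtain ⟨c, hc⟩ := χ.2.isGen.exists_int_of_pow x fun j hj =>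
    (χ.2.isClassFunction.of_isConj (a9 _ (npow_mem_zpowers x j) fun e => by
      have := hj.symm.orderOf_pow
      rw [e, orderOf_one] at this; omega)).symm
  have b1 : ∀ t, orderOf t = 2 → ρ.character t = m := fun t ht => by
    rw [hρ, χ.2.isClassFunction.of_isConj (hS.conj2 (nc2520 h) ht), hm]
  have b2 : ∀ t, orderOf t = 4 → ρ.character t = k := fun t ht => by
    rw [hρ, χ.2.isClassFunction.of_isConj (hS.conj4 ht), hk]
  have b3 : fd ρ ⊥ = 6 := by
    have := fd_bot ρ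
    rw [hρ, irr_one_eq, h6] at this
    exact_mod_cast this
  have b4 : ∀ (g : G) (j : ℤ), g ≠ 1 → (χ : G → ℂ) g = j → j ≠ 6 := by
    rintro g _ g1 e rfl
    exact g1 (eq_one_of_irr h1 (by rw [e, irr_one_eq, h6]; simp))
  have b5 := b4 _ _ (ne_one_of_ord2 t2) hm
  have b6 := b4 _ _ (fun e => by simp [e] at a1) hc
  have c5 : Nat.card (zpowers x) = 5 := by rw [Nat.card_zpowers, a1]
  have c1 := fd_step ρ (bot_le (a := zpowers x)) (c := c) (fun g hg g1 => by
    rw [hρ, ← χ.2.isClassFunction.of_isConj (a9 g hg g1), hc]) card_bot c5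
  have c2 := fd_step ρ a3 (fun g hg g1 => b1 g (a7 g hg g1)) c5 a5
  have c3 := fd_step ρ a4 (fun g hg g1 => b2 g (a8 g hg g1)) a5 a6
  have c4 := fd_anti ρ a4
  have c6 := fd_anti ρ (bot_le (a := zpowers x))
  have c7 := fd_anti ρ (bot_le (a := zpowers (u ^ 2)))
  obtain ⟨d1, d2, d3, d, d4⟩ := d8_dims ρ hS b1 b2
  obtain ⟨rfl, rfl⟩ : m = 2 ∧ k = 0 := by push_cast at *; omega
  exact ⟨b1, b2⟩

theorem card_norm_2520 (P : Sylow 3 G) : Nat.card (normalizer ((P : Subgroup G) : Set G)) = 36 := by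
  have : Fact (Nat.Prime 5) := ⟨by norm_num⟩
  have : Fact (Nat.Prime 7) := ⟨by norm_num⟩
  have hP : Nat.card P = 9 := card_sylow_of_card P (k := 2) (m := 280) h (by norm_num)
  have c2 := not_norm_le_cent (nc2520 h) (by rw [h]; norm_num) P
  have c4 := card_sylow_modEq_one 3 G
  have c5 := (normalizer ((P : Subgroup G) : Set G)).index_mul_card
  have c6 := card_dvd_of_le (le_normalizer (H := (P : Subgroup G)))
  have c7 : Nat.card (normalizer ((P : Subgroup G) : Set G)) ≠ 9 := fun e => c2 (by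
    rw [← eq_of_le_of_card_ge (le_normalizer (H := (P : Subgroup G))) (by rw [e, hP])]
    exact le_centralizer_iff_isMulCommutative.2 (isMulCommutative_of_card_sq (p := 3) hP))
  have c8 := mt (card_modEq_of_sc (fun x hx => (sc5_2520 h hx).1) (Q := P) (by rw [hP]; norm_num))
    (by rw [hP]; decide)
  have c9 := mt (card_modEq_of_sc (fun x hx => sc7_2520 h hx) (Q := P) (by rw [hP]; norm_num))
    (by rw [hP]; decide)
  rw [P.card_eq_index_normalizer] at c4
  change (normalizer ((P : Subgroup G) : Set G)).index % 3 = 1 at c4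
  rw [hP] at c6
  obtain ⟨k, hk⟩ := c6
  rw [hk] at c5 c7 c8 c9 ⊢
  have d1 : k ∣ 8 * 5 * 7 := Dvd.intro_left (normalizer ((P : Subgroup G) : Set G)).index (by linarith)
  have d2 := (((by norm_num : Nat.Prime 5).coprime_iff_not_dvd.2
    fun e => c8 (e.mul_left 9)).symm).dvd_of_dvd_mul_right ((((by norm_num :
    Nat.Prime 7).coprime_iff_not_dvd.2 fun e => c9 (e.mul_left 9)).symm).dvd_of_dvd_mul_right d1)
  have := Nat.le_of_dvd (by norm_num) d2
  interval_cases k <;> omega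

theorem final_2520 (P : Sylow 3 G) {M : Subgroup G} (h1 : M ≠ ⊤)
    (h2 : normalizer ((P : Subgroup G) : Set G) ≤ M) (h3 : 8 ∣ Nat.card M) :
    Nonempty (G ≃* alternatingGroup (Fin 7)) := by
  have a1 := two_mul_card_dvd_factorial (nc2520 h) M h1
  have a2 := M.index_mul_card
  have a3 := card_mul_relIndex h2
  have a4 := Core.IsSylowIn.relIndex_normalizer_modEq (Core.isSylowIn_of_le P (le_normalizer.trans h2))
  have a5 : 7 ≤ M.index := by_contra fun e => absurd (h ▸ a1.trans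
    (Nat.factorial_dvd_factorial (show M.index ≤ 6 by omega))) (by decide)
  rw [card_norm_2520 h] at a3
  change _ % 3 = 1 at a4
  have a6 : M.index = 7 := by
    rw [← a3] at a2 h3
    generalize Subgroup.relIndex _ M = r at *
    have : r ≤ 10 := by nlinarith
    interval_cases r <;> omega
  obtain ⟨f, hf⟩ := exists_perm_embedding' M (M.normalCore_normal.eq_bot_or_eq_top.resolve_right
    fun e => h1 (eq_top_iff.2 (e.ge.trans M.normalCore_le))) a6
  exact equiv_alternating_of_injective (by norm_num) f hf (by rw [h]; rfl)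

theorem alt_2520 : Nonempty (G ≃* alternatingGroup (Fin 7)) := by
  classical
  have := Fintype.ofFinite G
  have : Fact (Nat.Prime 3) := ⟨by norm_num⟩
  obtain ⟨P⟩ : Nonempty (Sylow 3 G) := inferInstance
  have hP : Nat.card P = 9 := card_sylow_of_card P (k := 2) (m := 280) h (by norm_num)
  have hc := isMulCommutative_of_card_sq (p := 3) hP
  have hN := card_norm_2520 h P
  set N := normalizer ((P : Subgroup G) : Set G) with hN'
  obtain ⟨x, u, -, -, hu, -⟩ := F20_2520 h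
  obtain ⟨S, hS⟩ := d8_2520 h hu
  have syl : ∀ X : Subgroup G, IsPGroup 2 X → X ≤ N → ∃ T, X ≤ T ∧ T ≤ N ∧ Nat.card T = 4 :=
    fun X h1 h2 => by
      obtain ⟨T, h3, h4⟩ := exists_isSylowOf_ge h1 h2
      refine ⟨T, h4, h3.le, ?_⟩
      rw [h3.card_eq, hN, show 36 = 2 ^ 2 * 9 by norm_num, Nat.factorization_mul (by norm_num)
        (by norm_num), Nat.Prime.factorization_pow Nat.prime_two]
      simp [Nat.factorization_eq_zero_of_not_dvd]
  by_cases hA : ∃ s ∈ N, orderOf s = 2 ∧ ∃ b ∈ (P : Subgroup G), b ≠ 1 ∧ b * s = s * b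
  · obtain ⟨s, hs, s2, b, hb, b1, hbs⟩ := hA
    set C := centralizer ({s} : Set G) with hC
    have a1 := npc_iff_coprime.1 (hS.npc s2)
    have a2 : 8 ∣ Nat.card C := by
      rw [card_centralizer_eq_of_isConj (hS.conj2 (nc2520 h) s2), ← hS.card]
      exact card_dvd_of_le hS.sylow_cent_sq.le
    have a3 := isP_cent_of_sc (by norm_num) (fun x hx => (sc5_2520 h hx).1) (ne_one_of_ord2 s2)
      (by rw [s2]; norm_num)
    have a4 := isP_cent_of_sc (by norm_num) (fun x hx => sc7_2520 h hx) (ne_one_of_ord2 s2)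
      (by rw [s2]; norm_num)
    have a5 : Nat.card (pResOf 2 C) ∣ 3 ^ 2 := by
      have i1 := card_dvd_of_le (pResOf_le (p := 2) C)
      have i2 : Nat.card (pResOf 2 C) ∣ 3 ^ 2 * 5 * 7 * 2 ^ 3 :=
        (card_subgroup_dvd_card _).trans (by rw [h]; norm_num)
      exact (((by norm_num : Nat.Prime 5).coprime_iff_not_dvd.2
        fun e => a3 (e.trans i1)).symm).dvd_of_dvd_mul_right ((((by norm_num :
        Nat.Prime 7).coprime_iff_not_dvd.2 fun e => a4 (e.trans i1)).symm).dvd_of_dvd_mul_right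
        ((a1.pow_right 3).dvd_of_dvd_mul_right i2))
    have a6 : (P : Subgroup G) ⊓ C ≤ pResOf 2 C := fun g hg => mem_pResOf hg.2
      (Nat.Coprime.coprime_dvd_left (orderOf_dvd_card_of_mem hg.1) (by rw [hP]; norm_num))
    have a7 := a2.trans (card_dvd_of_le (le_normalizer_pResOf (p := 2) C))
    have a8 : b ∈ (P : Subgroup G) ⊓ C := ⟨hb, mem_centralizer_singleton_iff.2 hbs⟩
    have a9 : (P : Subgroup G) ⊓ C = pResOf 2 C := by
      refine eq_of_le_of_card_ge a6 ?_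
      have i1 := Nat.le_of_dvd Nat.card_pos (dvd_card_of_isPGroup (P.2.to_inf_left (K := C))
        fun e => b1 (mem_bot.1 (e ▸ a8)))
      obtain ⟨i, hi, i2⟩ := (Nat.dvd_prime_pow Nat.prime_three).1 a5
      interval_cases i
      · omega
      · omega
      · obtain ⟨Q, hQ⟩ := (IsPGroup.of_card i2).exists_le_sylow
        rw [eq_of_le_of_card_ge hQ (by
          rw [i2, card_sylow_of_card Q (k := 2) (m := 280) h (by norm_num)]),
          card_norm_2520 h] at a7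
        omega
    rw [← a9] at a7
    refine final_2520 h P (fun e => ?_) ?_ a7
    · rcases (normalizer_eq_top_iff.1 e).eq_bot_or_eq_top with e | e
      · exact b1 (mem_bot.1 (e ▸ a8))
      · have := card_le_of_le (e.ge.trans inf_le_left)
        rw [card_top] at this; omega
    · obtain ⟨T, h1, h2, h3⟩ := syl _ (isPGroup_zpowers (k := 1)
        (orderOf_dvd_iff_pow_eq_one.1 s2.dvd)) (zpowers_le.2 hs)
      have i1 : T ≤ C := fun g hg => mem_centralizer_singleton_iff.2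
        (comm_of_mem (isMulCommutative_of_card_sq (p := 2) h3) hg (h1 (mem_zpowers s)))
      have i2 := card_dvd_of_le (le_inf h2 (i1.trans (a9 ▸ le_normalizer_pResOf (p := 2) C)))
      have i3 := card_dvd_of_le (le_inf le_normalizer (((le_centralizer_iff_isMulCommutative.2
        hc).trans (centralizer_le (SetLike.coe_subset_coe.2 (inf_le_left (b := C))))).trans
        (centralizer_le_normalizer _)))
      rw [h3] at i2
      rw [hP] at i3
      exact inf_eq_left.1 (eq_of_le_of_card_ge inf_le_left (hN ▸ Nat.le_of_dvd Nat.card_pos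
        (Nat.Coprime.mul_dvd_of_dvd_of_dvd (by norm_num : Nat.Coprime 4 9) i2 i3)))
  push Not at hA
  obtain ⟨a, ha, a1⟩ := exists_ne_one (H := (P : Subgroup G)) fun e => by
    rw [e, card_bot] at hP; omega
  have b1 : ∀ s ∈ N, orderOf s = 2 → s * a * s⁻¹ = a⁻¹ := fun s hs s2 => by
    have i1 := conj_mem_of_mem_normalizer hs ha
    have i2 := inv_eq_of_mul_eq_one_right (ord2_iff.1 s2).1
    refine eq_inv_of_mul_eq_one_right (by_contra fun e => hA s hs s2 _ (mul_mem ha i1) e ?_)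
    calc _ = a * s * a := by group
      _ = (s * s) * a * s⁻¹ * a := by rw [(ord2_iff.1 s2).1, i2, one_mul]
      _ = s * (s * a * s⁻¹ * a) := by group
      _ = _ := by rw [comm_of_mem hc ha i1]
  obtain ⟨v, hv, v4⟩ : ∃ v ∈ N, orderOf v = 4 := by
    by_contra hc
    push Not at hc
    obtain ⟨T, -, h2, h3⟩ := syl ⊥ IsPGroup.of_bot bot_le
    have hT := kf_of_card h3 fun w hw => by
      have h1 := orderOf_dvd_card_of_mem hw
      rw [h3, show 4 = 2 ^ 2 by norm_num, Nat.dvd_prime_pow Nat.prime_two] at h1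
      obtain ⟨i, hi, h1⟩ := h1
      rw [← sq, ← orderOf_dvd_iff_pow_eq_one, h1]
      interval_cases i
      · norm_num
      · norm_num
      · exact absurd h1 (hc w (h2 hw))
    obtain ⟨s, hs, s1, -⟩ := kf_exists_ne hT 1
    obtain ⟨t, ht, t1, st⟩ := kf_exists_ne hT s
    refine hA _ (h2 (mul_mem hs ht)) (kf_ord hT (mul_mem hs ht) fun e =>
      st (mul_left_cancel (e.trans (kf_sq hT hs).symm))) a ha a1 (mul_inv_eq_iff_eq_mul.1 ?_).symm
    rw [show s * t * a * (s * t)⁻¹ = s * (t * a * t⁻¹) * s⁻¹ by group,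
      b1 t (h2 ht) (kf_ord hT ht t1), ← conj_inv, b1 s (h2 hs) (kf_ord hT hs s1), inv_inv]
  have b2 : ∀ g ∈ N, g ∉ (P : Subgroup G) → orderOf g = 2 ∨ orderOf g = 4 := fun g hg g1 => by
    have i0 := (orderOf_pos g).ne'
    have i1 : ∀ y ∈ N, orderOf y ∣ 3 ^ 2 → y ∈ (P : Subgroup G) := fun y hy e =>
      Class.mem_sylow_of_mem_normalizer P hy (orderOf_dvd_iff_pow_eq_one.1 e)
    have i2 := hN ▸ orderOf_dvd_card_of_mem hg
    have i3 := mt (i1 g hg) g1
    have i4 : 2 ∣ orderOf g → ¬ 3 ∣ orderOf g := fun e2 e3 => by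
      have j := orderOf_pow_orderOf_div i0 e3
      exact hA _ (pow_mem hg _) (orderOf_pow_orderOf_div i0 e2) _
        (i1 _ (pow_mem hg _) (by rw [j]; norm_num)) (fun e => by simp [e] at j) (pow_mul_comm _ _ _)
    have := Nat.le_of_dvd (by norm_num) i2
    generalize orderOf g = k at *
    interval_cases k <;> simp_all
  obtain ⟨χ, h1, h6⟩ := deg6_2520 h
  obtain ⟨n, ρ, -, hρ⟩ := id χ.2
  obtain ⟨c1, c2⟩ := vals_2520 h hρ h1 h6
  have c3 : fd ρ N ≠ 0 := fun e => by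
    have i1 := fd_sdiff ρ (le_normalizer (H := (P : Subgroup G)))
    rw [sum_congr rfl (g := fun g => ((if orderOf g = 2 then 2 else 0 : ℕ) : ℂ)) fun g hg => by
      simp only [mem_sdiff, mem_filter, mem_univ, true_and] at hg
      rcases b2 g hg.1 hg.2 with e | e
      · simp [c1 g e, e]
      · simp [c2 g e, e], e, ← Nat.cast_sum] at i1
    norm_cast at i1
    have i2 := (sum_eq_zero_iff.1 (Nat.eq_zero_of_add_eq_zero_left i1.symm)) (v ^ 2) (by
      simp only [mem_sdiff, mem_filter, mem_univ, true_and]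
      refine ⟨pow_mem hv 2, fun e => ?_⟩
      have := orderOf_dvd_card_of_mem e
      rw [ord_sq_of_ord4 v4, hP] at this
      omega)
    simp [ord_sq_of_ord4 v4] at i2
  obtain ⟨w, hw, w0⟩ := Submodule.exists_mem_ne_zero_of_ne_bot (p := fx ρ N) fun e => c3 (by
    rw [fd, e, finrank_bot])
  obtain ⟨T, hT⟩ := d8_2520 h v4
  obtain ⟨-, d2, d3, -⟩ := d8_dims ρ hT c1 c2
  have b3 : fd ρ ⊥ = 6 := by
    have := fd_bot ρ
    rw [hρ, irr_one_eq, h6] at this
    exact_mod_cast this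
  have d4 : fx ρ T = fx ρ (zpowers v) := Submodule.eq_of_le_of_finrank_eq
    (fx_anti ρ (zpowers_le.2 hT.mem)) (show fd ρ T = fd ρ (zpowers v) by omega)
  refine final_2520 h P (M := vst ρ w) (fun e => ?_) ((mem_fx ρ).1 hw)
    (hT.card ▸ card_dvd_of_le ((mem_fx ρ).1 (d4 ▸ fx_anti ρ (zpowers_le.2 hv) hw)))
  have i1 := χ.2.classInner_of_ne isIrrCharacter_one (irr_ne_one h1)
  rw [classInner_one_right, ← hρ, sum_fd ρ ⊤ (by simp), card_top,
    inv_mul_cancel_left₀ (card_ne_zero G), Nat.cast_eq_zero, fd, Submodule.finrank_eq_zero] at i1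
  exact w0 ((Submodule.mem_bot ℂ).1 (i1 ▸ (mem_fx ρ).2 fun g hg => (e.symm ▸ hg : g ∈ vst ρ w)))

end

end Cfsg.Agent.H9
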