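import Cfsg.Agent.H9.Sm1
import Cfsg.Agent.Char.Extend

/-! Character-theoretic restrictions on small simple groups. -/

set_option autoImplicit false
set_option linter.unusedVariables false
set_option linter.unusedSectionVars false

namespace Cfsg.Agent.H9

open Finset Subgroup Cfsg.Agent.PLoc Cfsg.Agent.Char Cfsg.Agent.Blk Cfsg.Agent.Inv
open scoped IsMulCommutative ComplexConjugate

universe u

variable {G : Type u} [Group G] [Finite G]

theorem irr_ne_one {χ : IrrCharacter G} (h : χ ≠ irrOne G) : (χ : G → ℂ) ≠ fun _ => 1 :=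
  fun e => h (Subtype.ext e)

theorem eq_one_of_irr [IsSimpleGroup G] {χ : IrrCharacter G} (h : χ ≠ irrOne G) {g : G}
    (hg : (χ : G → ℂ) g = (χ : G → ℂ) 1) : g = 1 := by
  rw [← χ.2.isCharacter.mem_charKer, χ.2.charKer_eq_bot_of_simple (irr_ne_one h)] at hg
  exact hg

theorem eq_one_of_norm [IsSimpleGroup G] (hG : ¬ IsMulCommutative G) {χ : IrrCharacter G}
    (h : χ ≠ irrOne G) {g : G} (hg : ‖(χ : G → ℂ) g‖ = ‖(χ : G → ℂ) 1‖) : g = 1 := by
  have : g ∈ center G := mem_center_iff.2 fun x => by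
    have := eq_one_of_irr h (χ.2.isCharacter.commutator_of_norm_eq hg x)
    rw [mul_inv_eq_one, mul_inv_eq_iff_eq_mul] at this
    exact this.symm
  rwa [center_eq_bot_of_simple hG] at this

theorem eq_zero_of_coprime [IsSimpleGroup G] (hG : ¬ IsMulCommutative G) {χ : IrrCharacter G}
    (h : χ ≠ irrOne G) {g : G} (hg : g ≠ 1)
    (hc : (charDegree (χ : G → ℂ)).Coprime (centralizer ({g} : Set G)).index) :
    (χ : G → ℂ) g = 0 := by
  rcases χ.2.eq_zero_or_norm_eq (irr_one_eq χ) g hc with h1 | h1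
  · exact h1
  · exact absurd (eq_one_of_norm hG h (by rw [h1, irr_one_eq]; simp)) hg

theorem dvd_of_vanish {θ : G → ℂ} (hθ : IsGeneralizedCharacter G θ) (H : Subgroup G)
    (h : ∀ g ∈ H, g ≠ 1 → θ g = 0) {n : ℤ} (hn : θ 1 = n) : (Nat.card H : ℤ) ∣ n := by
  classical
  have := Fintype.ofFinite H
  obtain ⟨m, hm⟩ := (hθ.restrict H).classInner_int isGen_one
  rw [classInner_one_right, sum_eq_single (1 : H) (fun b _ hb => h b b.2 (by simpa using hb))
    (by simp)] at hm
  refine ⟨m, ?_⟩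
  have h0 := card_ne_zero H
  have : (n : ℂ) = Nat.card H * m := by
    rw [← hm, ← hn]; simp only [OneMemClass.coe_one]; field_simp
  exact_mod_cast this

theorem hom_eq_one [IsSimpleGroup G] (hG : ¬ IsMulCommutative G) (l : G →* ℂˣ) (g : G) :
    l g = 1 := by
  rcases l.normal_ker.eq_bot_or_eq_top with h | h
  · exact absurd ⟨⟨fun a b => (MonoidHom.ker_eq_bot_iff _).1 h (by
      rw [map_mul, map_mul, mul_comm])⟩⟩ hG
  · exact MonoidHom.mem_ker.1 (h ▸ mem_top g)

theorem index_cent_coprime {q : ℕ} [Fact q.Prime] (Q : Sylow q G) {z : G}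
    (hz : ∀ g ∈ (Q : Subgroup G), g * z = z * g) : ¬ q ∣ (centralizer ({z} : Set G)).index :=
  fun h => Q.not_dvd_index (h.trans (index_dvd_of_le fun g hg =>
    mem_centralizer_singleton_iff.2 (hz g hg)))

theorem exists_central {q : ℕ} [Fact q.Prime] (Q : Sylow q G) (h : q ∣ Nat.card G) :
    ∃ z ∈ (Q : Subgroup G), z ≠ 1 ∧ ∀ g ∈ (Q : Subgroup G), g * z = z * g := by
  have : Nontrivial Q := (Q : Subgroup G).nontrivial_iff_ne_bot.2 (Q.ne_bot_of_dvd_card h)
  have := Q.isPGroup'.center_nontrivial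
  obtain ⟨⟨z, hz⟩, h1⟩ := exists_ne (1 : center Q)
  refine ⟨z, z.2, fun e => h1 (Subtype.ext (Subtype.ext e)), fun g hg => ?_⟩
  exact congrArg Subtype.val (mem_center_iff.1 hz ⟨g, hg⟩)

theorem deg_dvd (χ : IrrCharacter G) : charDegree (χ : G → ℂ) ∣ Nat.card G :=
  χ.2.degree_dvd_card (irr_one_eq χ)

theorem deg_pos (χ : IrrCharacter G) : 0 < charDegree (χ : G → ℂ) :=
  Nat.pos_of_dvd_of_pos (deg_dvd χ) Nat.card_pos

/-- a prime degree divides the order exactly once -/
theorem not_sq_dvd_of_deg [IsSimpleGroup G] (hG : ¬ IsMulCommutative G) {χ : IrrCharacter G}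
    {q : ℕ} (hq : q.Prime) (hd : charDegree (χ : G → ℂ) = q) : ¬ q ^ 2 ∣ Nat.card G := by
  classical
  intro h2
  have : Fact q.Prime := ⟨hq⟩
  obtain ⟨Q⟩ : Nonempty (Sylow q G) := inferInstance
  have h1 : χ ≠ irrOne G := fun e => by
    rw [e, deg_irrOne] at hd; exact hq.one_lt.ne hd
  have hz : ∀ z, z ≠ 1 → (∀ g ∈ (Q : Subgroup G), g * z = z * g) → (χ : G → ℂ) z = 0 :=
    fun z z1 hz => eq_zero_of_coprime hG h1 z1 (by
      rw [hd, hq.coprime_iff_not_dvd]; exact index_cent_coprime Q hz)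
  have := Fintype.ofFinite Q
  have hr := χ.2.isCharacter.restrict (Q : Subgroup G)
  by_cases hc : ∃ ψ : Q → ℂ, IsIrrCharacter Q ψ ∧ classInner (fun x : Q => (χ : G → ℂ) x) ψ ≠ 0 ∧
      ψ 1 ≠ 1
  · obtain ⟨ψ, h3, h4, h5⟩ := hc
    obtain ⟨n, n0, hn⟩ := h3.exists_nat
    obtain ⟨k, hk⟩ := Q.isPGroup'.exists_card_eq
    have h6 := h3.degree_dvd_card hn
    rw [hk] at h6
    have h7 : q ∣ n := by
      obtain ⟨j, -, rfl⟩ := (Nat.dvd_prime_pow hq).1 h6
      rcases j with _ | j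
      · exact absurd hn (by simpa using h5)
      · exact dvd_pow_self _ (by simp)
    have h8 := hr.degree_le_of_constituent h3 h4
    simp only [OneMemClass.coe_one, irr_one_eq, hd, hn, Complex.natCast_re, Nat.cast_le] at h8
    have h9 := hr.eq_of_constituent_of_one_eq h3 h4 (by
      simp only [OneMemClass.coe_one, irr_one_eq, hd, hn]
      exact_mod_cast (le_antisymm h8 (Nat.le_of_dvd n0 h7)).symm)
    obtain ⟨z, zQ, z1, hz'⟩ := exists_central Q ((dvd_pow_self q two_ne_zero).trans h2)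
    have h10 := h3.norm_eq_of_comm (z := ⟨z, zQ⟩) fun g => Subtype.ext (hz' g g.2).symm
    rw [← h9] at h10
    simp only [hz z z1 hz', norm_zero, OneMemClass.coe_one] at h10
    exact χ.2.one_ne_zero (norm_eq_zero.1 h10.symm)
  · push Not at hc
    have hcomm : ∀ a ∈ (Q : Subgroup G), ∀ b ∈ (Q : Subgroup G), a * b = b * a := by
      intro a ha b hb
      have e1 := hr.isClassFunction.apply_eq_sum_irr (⟨a, ha⟩ * ⟨b, hb⟩ * (⟨b, hb⟩ * ⟨a, ha⟩)⁻¹)
      have e2 := hr.isClassFunction.apply_eq_sum_irr 1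
      rw [← mul_inv_eq_one]
      refine eq_one_of_irr h1 (e1.trans (Eq.trans (sum_congr rfl fun ψ _ => ?_) e2.symm))
      by_cases h3 : classInner (fun x : (Q : Subgroup G) => (χ : G → ℂ) x) ψ = 0
      · rw [h3, zero_mul, zero_mul]
      · obtain ⟨l, hl⟩ := ψ.2.isCharacter.exists_hom (hc ψ ψ.2 h3)
        rw [hl]
        simp only [map_mul, map_inv, map_one]
        rw [mul_comm (l ⟨b, hb⟩), mul_inv_cancel]
    have h3 := dvd_of_vanish χ.2.isGen (Q : Subgroup G)
      (fun g hg g1 => hz g g1 fun a ha => hcomm a ha g hg) (n := q) (by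
        rw [irr_one_eq, hd]; simp)
    have h4 : q ^ 2 ∣ Nat.card Q := by
      rw [Q.card_eq_multiplicity]
      exact pow_dvd_pow q ((hq.pow_dvd_iff_le_factorization Nat.card_pos.ne').1 h2)
    have h5 := Nat.le_of_dvd hq.pos (h4.trans (by exact_mod_cast h3))
    nlinarith [hq.two_le]

theorem three_le_deg [IsSimpleGroup G] (hG : ¬ IsMulCommutative G) {χ : IrrCharacter G}
    (h : χ ≠ irrOne G) : 3 ≤ charDegree (χ : G → ℂ) := by
  have h0 := deg_pos χ
  have h1 := mt (eq_irrOne_of_deg hG) h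
  have h2 : charDegree (χ : G → ℂ) ≠ 2 := fun e => by
    refine not_sq_dvd_of_deg hG Nat.prime_two e (four_dvd_card_of_simple ?_ fun e2 => hG ?_)
    · exact even_iff_two_dvd.2 (e ▸ deg_dvd χ)
    · have : Fact (Nat.Prime 2) := ⟨Nat.prime_two⟩
      have := isCyclic_of_prime_card e2
      infer_instance
  omega

theorem not_PB_of_pow [IsSimpleGroup G] (hG : ¬ IsMulCommutative G) {q : ℕ} [hq : Fact q.Prime]
    {M : Ideal AlgInt} [PMod q M] {χ : IrrCharacter G} (h : χ ≠ irrOne G) {c : ℕ}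
    (hd : charDegree (χ : G → ℂ) ∣ q ^ c) : χ ∉ PB M G := by
  intro hχ
  obtain ⟨Q⟩ : Nonempty (Sylow q G) := inferInstance
  obtain ⟨j, -, hj⟩ := (Nat.dvd_prime_pow hq.out).1 hd
  have h3 := three_le_deg hG h
  have hj0 : j ≠ 0 := by rintro rfl; rw [pow_zero] at hj; omega
  obtain ⟨z, zQ, z1, hz⟩ := exists_central Q ((hj ▸ dvd_pow_self q hj0).trans (deg_dvd χ))
  have h4 := index_cent_coprime Q hz
  have h5 := eq_zero_of_coprime hG h z1 (by
    rw [hj]; exact Nat.Coprime.pow_left _ (hq.out.coprime_iff_not_dvd.2 h4))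
  have h6 := sameBlock_iff.1 (mem_blockOf.1 (mem_PB.1 hχ)) z
  simp only [centralChar, h5, mul_one, div_one, mul_zero, zero_div, sub_zero] at h6
  exact h4 (natCast_mem_LP.1 h6)

variable {p : ℕ} [hp : Fact p.Prime] {x : G} {M : Ideal AlgInt} [hM : PMod p M]

theorem stanton [IsSimpleGroup G] (hG : ¬ IsMulCommutative G) (h : Syl1 p x) (hV : Vc p x ≠ ⊥)
    {χ : IrrCharacter G} (hχ : χ ∈ PB M G) (h1 : χ ≠ irrOne G) (k : ZMod p) :
    ∃ m : ℕ, 2 ≤ m ∧ ∑ i, (χ : G → ℂ) (pw x i) * ech (-(i * k)) = p * m := by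
  classical
  obtain ⟨w, hw, w1⟩ := exists_ne_one hV
  obtain ⟨hwc, hwp⟩ := h.mem_Vc.1 hw
  have hc : Commute x w := (mem_centralizer_singleton_iff.1 hwc).symm
  let A := zpowers (x * w)
  have xA : x ∈ A := ppart_mem_zpowers hp.out (ppart_mk hc ⟨1, by rw [h.ord, pow_one]⟩ hwp)
  have wA : w ∈ A := by simpa using mul_mem (inv_mem xA) (mem_zpowers (x * w))
  have BA : zpowers w ≤ A := zpowers_le.2 wA
  obtain ⟨n, l, -, hl⟩ := (χ.2.isCharacter.restrict A).exists_sum_hom_of_comm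
    (fun a b => (inferInstance : IsMulCommutative A).is_comm.comm a b)
  choose κ hκ using fun i => exists_ech (p := p) (z := l i ⟨x, xA⟩) (by
    rw [← Units.val_pow_eq_pow_val, ← map_pow]
    have : (⟨x, xA⟩ : A) ^ p = 1 := Subtype.ext (by rw [← h.ord]; exact pow_orderOf_eq_one x)
    rw [this, map_one, Units.val_one])
  have key : ∀ b : A, ∑ i, (χ : G → ℂ) (pw x i * b) * ech (-(i * k)) =
      p * ∑ j ∈ univ.filter (κ · = k), (l j b : ℂ) := fun b => by
    refine fourier_inv (m := fun k => ∑ j ∈ univ.filter (κ · = k), (l j b : ℂ)) (fun i => ?_) k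
    have := hl (⟨x, xA⟩ ^ i.val * b)
    simp only [Subgroup.coe_mul, SubgroupClass.coe_pow] at this
    rw [pw, this, ← sum_fiberwise univ κ]
    refine sum_congr rfl fun j _ => ?_
    rw [sum_mul]
    refine sum_congr rfl fun a ha => ?_
    rw [map_mul, map_pow, Units.val_mul, Units.val_pow_eq_pow_val, hκ, (mem_filter.1 ha).2, mul_comm,
      ech, ech, ← AddChar.map_nsmul_eq_pow]
    simp
  have k1 := key 1
  simp only [OneMemClass.coe_one, mul_one, map_one, Units.val_one, sum_const, nsmul_eq_mul] at k1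
  refine ⟨_, ?_, k1⟩
  have k2 : ∀ b : zpowers w, (χ : G → ℂ) b - (χ : G → ℂ) 1 =
      p * (∑ j ∈ univ.filter (κ · = k), (l j (inclusion BA b) : ℂ) -
        (univ.filter (κ · = k)).card) := fun b => by
    rw [mul_sub, ← k1, ← key, Syl1.sum_units, Syl1.sum_units (fun i => (χ : G → ℂ) (pw x i) * _),
      sum_congr rfl fun (i : (ZMod p)ˣ) _ => by
        rw [coe_inclusion, h.PB_const hχ (pw_mem _) (mt (pw_eq_one h.ord).1 i.ne_zero)
          (zpowers_le.2 hw b.2)]]
    simp [pw_zero, ech_zero]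
  by_contra hm
  refine w1 (eq_one_of_irr h1 (sub_eq_zero.1 ?_))
  rcases (by omega : (univ.filter (κ · = k)).card = 0 ∨ (univ.filter (κ · = k)).card = 1)
    with h0 | h0
  · have := k2 ⟨w, mem_zpowers w⟩
    rw [card_eq_zero.1 h0] at this
    simpa using this
  · obtain ⟨j, hj⟩ := card_eq_one.1 h0
    simp only [hj, sum_singleton, card_singleton, Nat.cast_one] at k2
    let l' : zpowers w →* ℂˣ := (l j).comp (inclusion BA)
    have e1 : (fun b : zpowers w => (χ : G → ℂ) b) + (p : ℂ) • (fun b => ((1 : zpowers w →* ℂˣ) b : ℂ))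
        = (p : ℂ) • (fun b => (l' b : ℂ)) + (charDegree (χ : G → ℂ) : ℂ) •
          (fun b => ((1 : zpowers w →* ℂˣ) b : ℂ)) := by
      ext b
      have := k2 b
      rw [irr_one_eq] at this
      simp only [Pi.add_apply, Pi.smul_apply, MonoidHom.one_apply, Units.val_one, smul_eq_mul,
        mul_one, l', MonoidHom.comp_apply]
      linear_combination this
    have e2 := congrFun (congrArg (fun f => ⇑(detHom f)) e1) ⟨w, mem_zpowers w⟩

    rw [detHom_add (χ.2.isCharacter.restrict _) ((isCharacter_hom _).natCast_smul _),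
      detHom_add ((isCharacter_hom _).natCast_smul _) ((isCharacter_hom _).natCast_smul _),
      detHom_natCast_smul (isCharacter_hom _), detHom_natCast_smul (isCharacter_hom _),
      detHom_natCast_smul (isCharacter_hom _), detHom_hom, detHom_hom] at e2
    simp only [Pi.mul_apply, Pi.pow_apply,
      MonoidHom.one_apply, one_pow, mul_one, detHom_restrict χ.2.isCharacter,
      hom_eq_one hG] at e2
    have e3 : l' ⟨w, mem_zpowers w⟩ ^ orderOf w = 1 := by
      rw [← map_pow]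
      have : (⟨w, mem_zpowers w⟩ : zpowers w) ^ orderOf w = 1 :=
        Subtype.ext (pow_orderOf_eq_one w)
      rw [this, map_one]
    have e4 : l' ⟨w, mem_zpowers w⟩ = 1 := by
      rw [← pow_one (l' _), ← (hp.out.coprime_iff_not_dvd.2 hwp).gcd_eq_one, pow_gcd_eq_one]
      exact ⟨e2.symm, e3⟩
    have := k2 ⟨w, mem_zpowers w⟩
    simp only [l', MonoidHom.comp_apply] at e4
    rw [e4] at this
    simpa using this

theorem det_cyclic {B : Type*} [Group B] [Finite B] [IsCyclic B] (he : Even (Nat.card B))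
    {θ : B → ℂ} (hθ : IsCharacter B θ) (h0 : ∀ b, b ≠ 1 → θ b = 0) {s : ℕ}
    (hs : θ 1 = Nat.card B * s) : ∃ b, (detHom θ b : ℂ) = (-1) ^ s := by
  classical
  obtain ⟨n, hn⟩ : ∃ n, Nat.card B = n + 1 := ⟨_, (Nat.succ_pred_eq_of_pos Nat.card_pos).symm⟩
  have φ := zmodCyclicMulEquiv (G := B) inferInstance
  rw [hn] at φ hs he
  let ψ : AddChar (ZMod (n + 1)) ℂ := ZMod.stdAddChar
  let l : ZMod (n + 1) → Multiplicative (ZMod (n + 1)) →* ℂˣ := fun k =>
    (ψ.mulShift k).toMonoidHom.toHomUnits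
  have hl : ∀ k a, (l k a : ℂ) = ψ (k * a.toAdd) := fun k a => rfl
  have e1 : (fun a => θ (φ.toMonoidHom a)) = (s : ℂ) • ∑ k, fun a => (l k a : ℂ) := by
    ext a
    simp only [Pi.smul_apply, Finset.sum_apply, hl, smul_eq_mul]
    rw [AddChar.sum_mulShift _ (ZMod.isPrimitive_stdAddChar _)]
    split_ifs with h
    · rw [toAdd_eq_zero.1 h, map_one, hs]; simp [mul_comm]
    · rw [h0 _ (by simpa using h)]; simp
  refine ⟨φ.toMonoidHom (Multiplicative.ofAdd 1), ?_⟩
  rw [← detHom_comp hθ, e1, detHom_natCast_smul (isCharacter_sum _ _ fun _ _ => isCharacter_hom _),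
    detHom_sum _ _ fun _ _ => isCharacter_hom _]
  simp only [detHom_hom]
  simp only [Pi.pow_apply, Finset.prod_apply, Units.val_pow_eq_pow_val, Units.coe_prod,
    hl, toAdd_ofAdd, mul_one]
  congr 1
  obtain ⟨m, hm⟩ := he
  have h1 : ∀ k : ZMod (n + 1), ψ k = ψ 1 ^ k.val := fun k => by
    rw [← AddChar.map_nsmul_eq_pow]; simp
  have h2 : ∑ k : ZMod (n + 1), k.val = m * n := by
    have := Finset.sum_range_id_mul_two (n + 1)
    rw [← Fin.sum_univ_eq_sum_range (fun i => i)] at this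
    have h3 : ∑ k : ZMod (n + 1), k.val = ∑ i : Fin (n + 1), (i : ℕ) := rfl
    rw [h3]
    simp only [Nat.add_sub_cancel] at this
    rw [hm] at this ⊢
    nlinarith
  have h3 : ψ 1 ^ m = -1 := by
    have h4 : ψ 1 ^ m * ψ 1 ^ m = 1 := by
      rw [← pow_add, ← hm, ← AddChar.map_nsmul_eq_pow]; simp
    refine (mul_self_eq_one_iff.1 h4).resolve_left fun h5 => ?_
    rw [← AddChar.map_nsmul_eq_pow, ← ψ.map_zero_eq_one] at h5
    have h6 := ZMod.injective_stdAddChar h5
    rw [nsmul_one, ZMod.natCast_eq_zero_iff] at h6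
    have := Nat.le_of_dvd (by omega) h6
    omega
  rw [Finset.prod_congr rfl fun k _ => h1 k, Finset.prod_pow_eq_pow_sum, h2, pow_mul, h3]
  exact Odd.neg_one_pow ⟨m - 1, by omega⟩

theorem SC_det [IsSimpleGroup G] (hG : ¬ IsMulCommutative G) (h : SC p x) {χ : G → ℂ}
    (hχ : IsCharacter G χ) (h0 : fm p x χ = 0) {d : ℕ} (hd : χ 1 = d)
    (he : Even (Nat.card (autSub h.ord))) : 2 * Nat.card (autSub h.ord) ∣ d := by
  classical
  obtain ⟨f, hf, hk⟩ := h.exists_hom
  obtain ⟨a, ha⟩ := IsCyclic.exists_ofOrder_eq_natCard (α := autSub h.ord)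
  obtain ⟨y, hy⟩ : (a : (ZMod p)ˣ) ∈ f.range := by rw [hf]; exact a.2
  have e2 := h.syl1.two_le hG
  have hfy : orderOf (f y) = Nat.card (autSub h.ord) := by rw [hy, orderOf_coe, ha]
  have y1 : (y : G) ∉ zpowers x := fun e => by
    rw [(hk y).2 e, orderOf_one] at hfy; omega
  have oy : orderOf (y : G) = Nat.card (autSub h.ord) := by rw [← h.orderOf_eq hk y1, hfy]
  have := Fintype.ofFinite (zpowers x)
  have hv : ∀ b ∈ zpowers (y : G), b ≠ 1 → χ b = 0 := by
    rintro _ ⟨j, rfl⟩ b1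
    have h1 : (y : G) ^ j ∉ zpowers x := fun e => b1 (by
      have : f (y ^ j) = 1 := (hk _).2 e
      rw [map_zpow, ← orderOf_dvd_iff_zpow_eq_one, hfy, ← oy, orderOf_dvd_iff_zpow_eq_one] at this
      exact this)
    have h2 := sum_mul_eq_zero hχ (zpowers x) ((sum_pw h.ord _).trans h0) ((y : G) ^ j)
    rw [sum_congr rfl (g := fun _ => χ ((y : G) ^ j)) fun u _ => ?_] at h2
    · simpa [Fintype.card_ne_zero] using h2
    · obtain ⟨w, -, hw⟩ := h.exists_conj (zpow_mem y.2 j) h1 u.2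
      rw [← hw]
      exact (hχ.isClassFunction.of_isConj (isConj_iff.2 ⟨w, rfl⟩)).symm
  have cB : Nat.card (zpowers (y : G)) = Nat.card (autSub h.ord) := by rw [Nat.card_zpowers, oy]
  obtain ⟨s, hs⟩ : Nat.card (autSub h.ord) ∣ d := by
    have := dvd_of_vanish hχ.isGen _ hv (n := d) (by simpa using hd)
    rw [cB] at this
    exact_mod_cast this
  obtain ⟨b, hb⟩ := det_cyclic (B := zpowers (y : G)) (cB ▸ he) (hχ.restrict _)
    (fun b hb => hv b b.2 (by simpa using hb)) (s := s) (by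
      simp only [OneMemClass.coe_one, hd, hs, cB]; simp)
  rw [detHom_restrict hχ, hom_eq_one hG] at hb
  rcases s.even_or_odd with ⟨r, hr⟩ | h1
  · exact ⟨r, by rw [hs, hr]; ring⟩
  · rw [h1.neg_one_pow] at hb
    norm_num at hb

theorem brauer_tuan (h : SC p x) {N : Finset (IrrCharacter G)} {δ : IrrCharacter G → ℤ} {ε : ℤ}
    {μ : (ZMod p)ˣ → IrrCharacter G} (D : D1 M h.syl1 N δ ε μ) {q : ℕ} [hq : Fact q.Prime]
    (hpq : q ≠ p) (M' : Ideal AlgInt) [PMod q M'] [DecidableEq (IrrCharacter G)] (Q : Sylow q G) :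
    ∃ k : ℕ, k ≤ (autSub h.ord).index ∧ (k = 0 ∨ ∃ j, μ j ∈ PB M' G) ∧
      (Nat.card Q : ℤ) ∣ (p - 1) * (1 + ∑ χ ∈ (N.erase (irrOne G)).filter (· ∈ PB M' G),
        δ χ * charDegree (χ : G → ℂ)) -
        k * (Nat.card (autSub h.ord) * (ε * charDegree (μ 1 : G → ℂ))) := by
  classical
  let c : IrrCharacter G → ℤ := fun χ => if χ ∈ N then (p - 1) * δ χ else
    if χ ∈ univ.image μ then -(Nat.card (autSub h.ord) * ε) else 0
  have hc : ∀ χ : IrrCharacter G, ∑ i : (ZMod p)ˣ, (χ : G → ℂ) (pw x (i : ZMod p)) = c χ := by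
    intro χ
    have h1 := fm_eq (p := p) (x := x) (χ : G → ℂ)
    simp only [c]
    split_ifs with h2 h3
    · rw [D.fm_N h2, irr_one_eq] at h1
      push_cast; linear_combination -h1
    · obtain ⟨j, -, rfl⟩ := mem_image.1 h3
      rw [D.fm_exc, irr_one_eq] at h1
      push_cast; linear_combination -h1
    · rw [sum_eq_zero fun i _ => h.not_PB (M := M) ?_ i.ne_zero, Int.cast_zero]
      rw [D.PB_eq]; simp only [mem_union, not_or]; exact ⟨h2, by convert h3⟩
  have h1 := dvd_of_vanish (isGen_sum (PB M' G) (fun χ => (c χ : ℂ) • (χ : G → ℂ))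
    fun χ _ => χ.2.isGen.intCast_smul _) (Q : Subgroup G) (fun g hg g1 => ?_)
    (n := ∑ χ ∈ PB M' G, c χ * charDegree (χ : G → ℂ)) (by simp [irr_one_eq])
  · refine ⟨((univ.image μ).filter (· ∈ PB M' G)).card, ?_, ?_, ?_⟩
    · rw [← D.card_exc]; convert card_filter_le _ _
    · rcases ((univ.image μ).filter (· ∈ PB M' G)).eq_empty_or_nonempty with h2 | ⟨χ, h2⟩
      · exact Or.inl (by rw [h2, card_empty])
      · obtain ⟨j, -, rfl⟩ := mem_image.1 (mem_filter.1 h2).1
        exact Or.inr ⟨j, (mem_filter.1 h2).2⟩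
    · convert h1 using 1
      have e1 : ∑ χ ∈ PB M' G, c χ * charDegree (χ : G → ℂ) =
          ∑ χ ∈ N.filter (· ∈ PB M' G), (p - 1) * (δ χ * charDegree (χ : G → ℂ)) +
          ∑ χ ∈ (univ.image μ).filter (· ∈ PB M' G),
            -(Nat.card (autSub h.ord) * (ε * charDegree (μ 1 : G → ℂ))) := by
        rw [sum_filter, sum_filter, ← sum_filter, ← sum_filter, filter_mem_eq_inter,
          filter_mem_eq_inter, inter_comm, inter_comm (univ.image μ), ← filter_mem_eq_inter,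
          ← filter_mem_eq_inter, sum_filter, sum_filter, ← sum_add_distrib]
        refine sum_congr rfl fun χ _ => ?_
        simp only [c]
        split_ifs with h2 h3 h3
        · obtain ⟨j, -, rfl⟩ := mem_image.1 h3
          exact absurd h2 (D.exc_not j)
        · ring
        · obtain ⟨j, -, rfl⟩ := mem_image.1 h3
          rw [D.deg_exc_eq j]; ring
        · simp
      rw [e1, sum_const, ← mul_sum, filter_erase, ← add_sum_erase _ _
        (mem_filter.2 ⟨D.one_mem, one_mem_PB q⟩), D.δ_one, deg_irrOne]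
      simp; ring
  · have h2 : q ∣ orderOf g := by
      obtain ⟨k, hk⟩ := (IsPGroup.iff_orderOf.1 Q.isPGroup') ⟨g, hg⟩
      rw [orderOf_mk] at hk
      rcases k with _ | k
      · exact absurd (orderOf_eq_one_iff.1 hk) g1
      · exact hk ▸ dvd_pow_self _ (by simp)
    have h3 : ∑ i : (ZMod p)ˣ, ∑ χ ∈ PB M' G, (χ : G → ℂ) (pw x (i : ZMod p)) *
        conj ((χ : G → ℂ) g) = 0 := sum_eq_zero fun i _ => PB_reg (p := q) (by
          rw [orderOf_pw h.ord i.ne_zero, Nat.prime_dvd_prime_iff_eq hq.out hp.out]; exact hpq) h2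
    rw [sum_comm] at h3
    simp only [← sum_mul, hc] at h3
    have h4 := congrArg conj h3
    simpa [map_sum] using h4

end Cfsg.Agent.H9
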