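import Cfsg.Agent.H9.Sm2

/-! Brauer trees of small simple groups: a decidable enumeration. -/

set_option autoImplicit false
set_option linter.unusedVariables false
set_option linter.unusedSectionVars false

namespace Cfsg.Agent.H9

open Finset Subgroup Cfsg.Agent.PLoc Cfsg.Agent.Char Cfsg.Agent.Blk Cfsg.Agent.Inv
open scoped IsMulCommutative ComplexConjugate

universe u

def isPrB (p : ℕ) : Bool :=
  decide (2 ≤ p) && decide (p < 6400) &&
    (List.range 80).all fun k => decide (k < 2) || decide (p ≤ k) || decide (p % k ≠ 0)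

theorem prime_of_isPrB {p : ℕ} (h : isPrB p = true) : p.Prime := by
  simp only [isPrB, Bool.and_eq_true, decide_eq_true_eq, List.all_eq_true, List.mem_range,
    Bool.or_eq_true] at h
  obtain ⟨⟨h1, h2⟩, h3⟩ := h
  refine Nat.prime_def_le_sqrt.2 ⟨h1, fun m m2 hm hd => ?_⟩
  have h4 : m * m ≤ p := Nat.le_sqrt.1 hm
  rcases h3 m (by nlinarith) with (h | h) | h
  · omega
  · nlinarith
  · exact h (Nat.mod_eq_zero_of_dvd hd)

def dvs (n : ℕ) : List ℕ :=
  ((List.range 80).filter fun d => decide (0 < d) && decide (n % d = 0)).flatMap fun d => [d, n / d]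

theorem mem_dvs {n d : ℕ} (h0 : 0 < n) (hn : n < 6400) (h : d ∣ n) : d ∈ dvs n := by
  obtain ⟨c, rfl⟩ := h
  have d0 : 0 < d := Nat.pos_of_mul_pos_right h0
  have c0 : 0 < c := Nat.pos_of_mul_pos_left h0
  simp only [dvs, List.mem_flatMap, List.mem_filter, List.mem_range, Bool.and_eq_true,
    decide_eq_true_eq, List.mem_cons, List.not_mem_nil, or_false]
  by_cases h1 : d < 80
  · exact ⟨d, ⟨h1, d0, by simp⟩, Or.inl rfl⟩
  · exact ⟨c, ⟨by nlinarith, c0, by simp⟩, Or.inr (by rw [Nat.mul_div_cancel _ c0])⟩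

theorem dvd_of_mem_dvs {n d : ℕ} (h : d ∈ dvs n) : d ∣ n := by
  simp only [dvs, List.mem_flatMap, List.mem_filter, List.mem_range, Bool.and_eq_true,
    decide_eq_true_eq, List.mem_cons, List.not_mem_nil, or_false] at h
  obtain ⟨c, ⟨-, -, h1⟩, rfl | rfl⟩ := h
  · exact Nat.dvd_of_mod_eq_zero h1
  · exact Nat.div_dvd_of_dvd (Nat.dvd_of_mod_eq_zero h1)

def prs (n : ℕ) : List ℕ := (dvs n).filter isPrB

theorem mem_prs {n q : ℕ} (h : q ∈ prs n) : q.Prime ∧ q ∣ n :=
  ⟨prime_of_isPrB (List.mem_filter.1 h).2, dvd_of_mem_dvs (List.mem_filter.1 h).1⟩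

def idxOK (n m : ℕ) : Bool := decide (80 ≤ m) || decide (m.factorial % (2 * n) = 0)

def degOK (n d : ℕ) : Bool :=
  decide (3 ≤ d) && decide (n % d = 0) && !(decide (n % (d * d) = 0) && isPrB d)

def cand (n : ℕ) : List ℤ :=
  ((List.range 80).filter (degOK n)).flatMap fun d : ℕ => [(d : ℤ), -(d : ℤ)]

def sqs (L : List ℤ) : ℕ := (L.map fun a => a.natAbs ^ 2).sum

def enum : List ℤ → ℕ → ℕ → List (List ℤ)
  | [], k, _ => if k = 0 then [[]] else []
  | c :: cs, k, b => (List.range (k + 1)).flatMap fun j =>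
      if j * c.natAbs ^ 2 ≤ b then
        (enum cs (k - j) (b - j * c.natAbs ^ 2)).map (List.replicate j c ++ ·) else []

theorem exists_enum (C : List ℤ) : ∀ (k b : ℕ) (s : Multiset ℤ), (∀ a ∈ s, a ∈ C) →
    Multiset.card s = k → (s.map fun a => a.natAbs ^ 2).sum ≤ b →
    ∃ l ∈ enum C k b, (l : Multiset ℤ) = s := by
  induction C with
  | nil =>
    intro k b s h1 h2 h3
    obtain rfl : s = 0 := Multiset.eq_zero_of_forall_notMem fun a ha => by simpa using h1 a ha
    exact ⟨[], by simp [enum, ← h2], rfl⟩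
  | cons c cs ih =>
    intro k b s h1 h2 h3
    have e := Multiset.filter_add_not (· = c) s
    rw [Multiset.filter_eq'] at e
    have e1 := congrArg Multiset.card e
    have e2 := congrArg (fun s : Multiset ℤ => (s.map fun a => a.natAbs ^ 2).sum) e
    simp only [Multiset.card_add, Multiset.card_replicate, Multiset.map_add, Multiset.sum_add,
      Multiset.map_replicate, Multiset.sum_replicate, smul_eq_mul] at e1 e2
    obtain ⟨l, hl, hl'⟩ := ih (k - s.count c) (b - s.count c * c.natAbs ^ 2)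
      (s.filter fun a => ¬ a = c) (fun a ha => by
        have := Multiset.mem_filter.1 ha
        exact (List.mem_cons.1 (h1 a this.1)).resolve_left this.2) (by omega) (by omega)
    refine ⟨List.replicate (s.count c) c ++ l, ?_, ?_⟩
    · simp only [enum, List.mem_flatMap, List.mem_range]
      exact ⟨s.count c, by omega, by rw [if_pos (by omega)]; exact List.mem_map.2 ⟨l, hl, rfl⟩⟩
    · rw [← Multiset.coe_add, hl', Multiset.coe_replicate, e]

def stOK (p v e : ℕ) (a : ℤ) (r : ℕ) : Bool :=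
  if v = 1 then decide (e % 2 = 1) || decide (a.natAbs % (2 * e) = 0) ||
    (decide (a ≠ e) && decide (a ≠ 1 - p))
  else if 0 < a then decide (2 * p + r ≤ a) else decide (3 * p ≤ r - a)

def aOK (p v e np : ℕ) (a : ℤ) (r : ℕ) : Bool :=
  decide ((e * np) % a.natAbs = 0) && decide ((a - r) % p = 0) && stOK p v e a r

def isPw (q : ℕ) (a : ℤ) : Bool := decide (q ^ 13 % a.natAbs = 0)

def btOK (n p e : ℕ) (L : List ℤ) (f : ℤ) : Bool :=
  (prs n).all fun q => decide (q = p) ||
    (L.filter fun a => !isPw q a).sublists.any fun S =>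
      (List.range ((p - 1) / e + 1)).any fun k => (decide (k = 0) || !isPw q f) &&
        decide (((p - 1) * (1 + S.sum) - k * (e * f)) % (Nat.gcd n (q ^ 13) : ℕ) = 0)

def fOK (n p v e np : ℕ) (L : List ℤ) (f : ℤ) : Bool :=
  degOK n f.natAbs && aOK p v e np f e &&
    decide (1 + sqs L + (p - 1) / e * f.natAbs ^ 2 ≤ n) && (decide (v ≠ 1) || btOK n p e L f)

def trees (n p : ℕ) : List (ℕ × ℕ × ℕ × List ℤ) :=
  ((dvs n).filter fun np => decide (np % p = 1) && idxOK n np).flatMap fun np =>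
    ((List.range p).filter fun e => decide (2 ≤ e) && decide ((p - 1) % e = 0) &&
      decide (n % (p * e * np) = 0)).flatMap fun e =>
      ((enum ((cand n).filter fun a => aOK p (n / (p * e * np)) e np a 1) (e - 1) n).filter
        fun L => fOK n p (n / (p * e * np)) e np L (1 + L.sum)).map
          fun L => (n / (p * e * np), e, np, L)

variable {G : Type u} [Group G] [Finite G] [IsSimpleGroup G]

theorem idxOK_index (hG : ¬ IsMulCommutative G) {H : Subgroup G} (hH : H ≠ ⊤) :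
    idxOK (Nat.card G) H.index = true := by
  simp only [idxOK, Bool.or_eq_true, decide_eq_true_eq]
  exact Or.inr (Nat.mod_eq_zero_of_dvd (two_mul_card_dvd_factorial hG H hH))

theorem degOK_deg (hG : ¬ IsMulCommutative G) {χ : IrrCharacter G} (h : χ ≠ irrOne G) :
    degOK (Nat.card G) (charDegree (χ : G → ℂ)) = true := by
  simp only [degOK, Bool.and_eq_true, decide_eq_true_eq, Bool.not_eq_true', Bool.and_eq_false_iff,
    decide_eq_false_iff_not]
  refine ⟨⟨three_le_deg hG h, Nat.mod_eq_zero_of_dvd (deg_dvd χ)⟩, ?_⟩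
  by_contra hc
  push Not at hc
  exact not_sq_dvd_of_deg hG (prime_of_isPrB (by simpa using hc.2)) rfl
    (sq (charDegree (χ : G → ℂ)) ▸ Nat.dvd_of_mod_eq_zero hc.1)

theorem natAbs_sign {s : ℤ} (hs : s = 1 ∨ s = -1) (d : ℕ) : (s * d).natAbs = d := by
  rcases hs with rfl | rfl <;> simp

theorem mem_cand (hG : ¬ IsMulCommutative G) (hn : Nat.card G < 6400) {χ : IrrCharacter G}
    (h : χ ≠ irrOne G) {s : ℤ} (hs : s = 1 ∨ s = -1) :
    s * charDegree (χ : G → ℂ) ∈ cand (Nat.card G) := by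
  have h1 := sum_deg_sq_le {χ}
  rw [sum_singleton] at h1
  simp only [cand, List.mem_flatMap, List.mem_filter, List.mem_range]
  refine ⟨_, ⟨by nlinarith, degOK_deg hG h⟩, ?_⟩
  rcases hs with rfl | rfl <;> simp

theorem gcd_dvd_sylow {q : ℕ} [hq : Fact q.Prime] (Q : Sylow q G) (c : ℕ) :
    Nat.gcd (Nat.card G) (q ^ c) ∣ Nat.card Q := by
  obtain ⟨j, -, hj⟩ := (Nat.dvd_prime_pow hq.out).1 (Nat.gcd_dvd_right (Nat.card G) (q ^ c))
  rw [Q.card_eq_multiplicity, hj]
  exact pow_dvd_pow q ((hq.out.pow_dvd_iff_le_factorization Nat.card_pos.ne').1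
    (hj ▸ Nat.gcd_dvd_left _ _))

variable {p : ℕ} [hp : Fact p.Prime] {x : G} {M : Ideal AlgInt} [hM : PMod p M]
  {h : Syl1 p x} {N : Finset (IrrCharacter G)} {δ : IrrCharacter G → ℤ} {ε : ℤ}
  {μ : (ZMod p)ˣ → IrrCharacter G}

theorem sum_ech_erase (b : ZMod p) : ∑ i : (ZMod p)ˣ, ech ((i : ZMod p) * b) =
    (if b = 0 then (p : ℂ) else 0) - 1 := by
  rw [← sum_ech, Syl1.sum_units]; simp [ech_zero]

theorem aOK_N (hG : ¬ IsMulCommutative G) (D : D1 M h N δ ε μ) {χ : IrrCharacter G} (hχ : χ ∈ N)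
    (h1 : χ ≠ irrOne G) : aOK p (Nat.card (Vc p x)) (Nat.card (autSub h.ord)) (Nx x).index
      (δ χ * charDegree (χ : G → ℂ)) 1 = true := by
  have h2 := D.dvd_N hχ
  rw [index_cent h.ord] at h2
  obtain ⟨m, h3, h4⟩ := D.deg_N χ hχ
  have h5 := D.fm_N hχ
  have d0 := deg_pos χ
  have p2 := hp.out.two_le
  simp only [aOK, Bool.and_eq_true, decide_eq_true_eq, natAbs_sign (D.δ_val χ hχ), stOK]
  refine ⟨⟨Nat.mod_eq_zero_of_dvd h2, Int.emod_eq_zero_of_dvd ⟨δ χ * (m - δ χ), ?_⟩⟩, ?_⟩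
  · rw [h3]; rcases D.δ_val χ hχ with e | e <;> rw [e] <;> push_cast <;> ring
  split_ifs with hv ha
  · have hs := h.sc (card_eq_one.1 hv)
    simp only [Bool.or_eq_true, decide_eq_true_eq, Bool.and_eq_true]
    by_cases he : Nat.card (autSub h.ord) % 2 = 1
    · exact Or.inl (Or.inl he)
    by_cases h0 : fm p x χ = 0
    · exact Or.inl (Or.inr (Nat.mod_eq_zero_of_dvd (SC_det hG hs χ.2.isCharacter h0 (irr_one_eq χ)
        (Nat.even_iff.2 (by omega)))))
    have e2 := h.two_le hG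
    have e3 := Nat.le_of_dvd (by omega) (card_autSub_dvd h.ord)
    refine Or.inr ⟨fun e => ?_, fun e => h0 ?_⟩
    · rcases D.δ_val χ hχ with e' | e' <;> rw [e'] at e h3 h4
      · have : (m : ℤ) - 1 = 0 ∨ 1 ≤ (m : ℤ) - 1 := by omega
        rcases this with h6 | h6
        · rw [h6] at h3; omega
        · have : (p : ℤ) ≤ p * (m - 1) := by nlinarith
          omega
      · omega
    · rcases D.δ_val χ hχ with e' | e' <;> rw [e'] at e h5
      · omega
      · rw [h5]
        have : (charDegree (χ : G → ℂ) : ℤ) = p - 1 := by omega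
        have h6 : (charDegree (χ : G → ℂ) : ℂ) = p - 1 := by exact_mod_cast this
        rw [h6]; push_cast; ring
  · have e' : δ χ = 1 := (D.δ_val χ hχ).resolve_right fun e => by rw [e] at ha; omega
    obtain ⟨k, k2, hk⟩ := stanton hG h (mt card_eq_one.2 hv) (D.sub hχ) h1 1
    rw [Syl1.sum_units, sum_congr rfl fun (i : (ZMod p)ˣ) _ => by
      rw [D.apply_N χ hχ _ i.ne_zero, e', ← mul_neg]] at hk
    simp only [pw_zero, zero_mul, neg_zero, ech_zero, mul_one, Int.cast_one, one_mul,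
      sum_ech_erase, neg_eq_zero, one_ne_zero, if_false, irr_one_eq] at hk
    have : (charDegree (χ : G → ℂ) : ℤ) + (0 - 1) = p * k := by exact_mod_cast hk
    rw [e', decide_eq_true_eq, Nat.cast_one]
    nlinarith
  · have e' : δ χ = -1 := (D.δ_val χ hχ).resolve_left fun e => by rw [e] at ha; omega
    obtain ⟨k, k2, hk⟩ := stanton hG h (mt card_eq_one.2 hv) (D.sub hχ) h1 0
    simp only [mul_zero, neg_zero, ech_zero, mul_one] at hk
    rw [fm, hk, e'] at h5
    have : (p : ℤ) * k = charDegree (χ : G → ℂ) + (p - 1) * (-1) := by exact_mod_cast h5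
    rw [e', decide_eq_true_eq, Nat.cast_one]
    nlinarith

theorem aOK_exc (hG : ¬ IsMulCommutative G) (D : D1 M h N δ ε μ) :
    aOK p (Nat.card (Vc p x)) (Nat.card (autSub h.ord)) (Nx x).index
      (ε * charDegree (μ 1 : G → ℂ)) (Nat.card (autSub h.ord)) = true := by
  have h2 := D.dvd_exc 1
  rw [index_cent h.ord] at h2
  obtain ⟨m, h3, h4⟩ := D.deg_exc 1
  have h5 := D.fm_exc 1
  have d0 := deg_pos (μ 1)
  have p2 := hp.out.two_le
  have e2 := h.two_le hG
  have e3 := Nat.le_of_dvd (by omega) (card_autSub_dvd h.ord)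
  simp only [aOK, Bool.and_eq_true, decide_eq_true_eq, natAbs_sign D.ε_val, stOK]
  refine ⟨⟨Nat.mod_eq_zero_of_dvd h2, Int.emod_eq_zero_of_dvd ⟨ε * m, ?_⟩⟩, ?_⟩
  · rw [h3]; rcases D.ε_val with e | e <;> rw [e] <;> ring
  split_ifs with hv ha
  · have hs := h.sc (card_eq_one.1 hv)
    simp only [Bool.or_eq_true, decide_eq_true_eq, Bool.and_eq_true]
    by_cases he : Nat.card (autSub h.ord) % 2 = 1
    · exact Or.inl (Or.inl he)
    by_cases h0 : fm p x (μ 1) = 0
    · exact Or.inl (Or.inr (Nat.mod_eq_zero_of_dvd (SC_det hG hs (μ 1).2.isCharacter h0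
        (irr_one_eq _) (Nat.even_iff.2 (by omega)))))
    refine Or.inr ⟨fun e => h0 ?_, fun e => ?_⟩
    · rcases D.ε_val with e' | e' <;> rw [e'] at e h5
      · rw [h5]
        have : charDegree (μ 1 : G → ℂ) = Nat.card (autSub h.ord) := by omega
        rw [this]; push_cast; ring
      · omega
    · rcases D.ε_val with e' | e' <;> rw [e'] at e h3 h4
      · omega
      · have : (m : ℤ) = 1 ∨ 2 ≤ (m : ℤ) := by omega
        rcases this with h6 | h6
        · rw [h6] at h3; omega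
        · have : (p : ℤ) * 2 ≤ p * m := by nlinarith
          omega
  · have e' : ε = 1 := D.ε_val.resolve_right fun e => by rw [e] at ha; omega
    obtain ⟨k, k2, hk⟩ := stanton hG h (mt card_eq_one.2 hv) (D.exc_mem 1) (D.ne_one 1) 0
    simp only [mul_zero, neg_zero, ech_zero, mul_one] at hk
    rw [fm, hk, e'] at h5
    have : (p : ℤ) * k = charDegree (μ 1 : G → ℂ) - 1 * Nat.card (autSub h.ord) := by
      exact_mod_cast h5
    rw [e', decide_eq_true_eq]
    nlinarith
  · have e' : ε = -1 := D.ε_val.resolve_left fun e => by rw [e] at ha; omega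
    obtain ⟨k, k2, hk⟩ := stanton hG h (mt card_eq_one.2 hv) (D.exc_mem 1) (D.ne_one 1) 1
    have := Fintype.ofFinite (autSub h.ord)
    rw [Syl1.sum_units, sum_congr rfl (g := fun i : (ZMod p)ˣ => -∑ a : autSub h.ord,
      ech ((i : ZMod p) * (((a : (ZMod p)ˣ) : ZMod p) - 1))) fun (i : (ZMod p)ˣ) _ => by
        rw [D.apply_exc 1 _ i.ne_zero, e', eta, finsum_eq_sum_of_fintype]
        simp only [Int.cast_neg, Int.cast_one, neg_mul, one_mul, sum_mul, ← ech_add, Units.val_one,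
          mul_one, mul_sub, sub_eq_add_neg, mul_add, mul_neg]] at hk
    rw [sum_neg_distrib, sum_comm] at hk
    simp only [sum_ech_erase, sub_eq_zero, Units.val_eq_one, OneMemClass.coe_eq_one,
      sum_sub_distrib, sum_ite_eq', mem_univ, if_true, sum_const, card_univ,
      ← Nat.card_eq_fintype_card, pw_zero, zero_mul, neg_zero, ech_zero, mul_one, irr_one_eq,
      nsmul_eq_mul] at hk
    have : (charDegree (μ 1 : G → ℂ) : ℤ) + -(p - Nat.card (autSub h.ord)) = p * k := by
      exact_mod_cast hk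
    rw [e', decide_eq_true_eq]
    nlinarith

theorem tree_mem (hG : ¬ IsMulCommutative G) (hn : Nat.card G < 6400) (D : D1 M h N δ ε μ)
    [DecidableEq (IrrCharacter G)] :
    ∃ L : List ℤ, (L : Multiset ℤ) =
      (N.erase (irrOne G)).val.map (fun χ => δ χ * charDegree (χ : G → ℂ)) ∧
      1 + L.sum = ε * charDegree (μ 1 : G → ℂ) ∧
      (Nat.card (Vc p x), Nat.card (autSub h.ord), (Nx x).index, L) ∈ trees (Nat.card G) p := by
  have p2 := hp.out.two_le
  have e2 := h.two_le hG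
  have e3 := Nat.le_of_dvd (by omega) (card_autSub_dvd h.ord)
  have hc := h.card_eq
  have hv : Nat.card G / (p * Nat.card (autSub h.ord) * (Nx x).index) = Nat.card (Vc p x) :=
    Nat.div_eq_of_eq_mul_left (Nat.mul_pos (Nat.mul_pos (by omega) (by omega)) (index_pos' _))
      (by rw [hc]; ring)
  have ht : (p - 1) / Nat.card (autSub h.ord) = (autSub h.ord).index :=
    Nat.div_eq_of_eq_mul_right (by omega) (by have := e_mul_t h.ord; omega)
  have hsq := sum_deg_sq_le (PB M G)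
  rw [D.sum_PB _ (c := charDegree (μ 1 : G → ℂ) ^ 2) fun j => by rw [D.deg_exc_eq j],
    ← add_sum_erase _ _ D.one_mem, deg_irrOne, smul_eq_mul] at hsq
  have hsq' : (((N.erase (irrOne G)).val.map (fun χ => δ χ * charDegree (χ : G → ℂ))).map
      fun a => a.natAbs ^ 2).sum = ∑ χ ∈ N.erase (irrOne G), charDegree (χ : G → ℂ) ^ 2 := by
    rw [Multiset.map_map]
    exact sum_congr rfl fun χ hχ => by
      simp only [Function.comp, natAbs_sign (D.δ_val χ (mem_of_mem_erase hχ))]
  obtain ⟨L, hL, hL'⟩ := exists_enum ((cand (Nat.card G)).filter fun a => aOK p (Nat.card (Vc p x))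
    (Nat.card (autSub h.ord)) (Nx x).index a 1) (Nat.card (autSub h.ord) - 1) (Nat.card G)
    ((N.erase (irrOne G)).val.map (fun χ => δ χ * charDegree (χ : G → ℂ))) (fun a ha => by
      obtain ⟨χ, hχ, rfl⟩ := Multiset.mem_map.1 ha
      obtain ⟨h1, h2⟩ := mem_erase.1 hχ
      exact List.mem_filter.2 ⟨mem_cand hG hn h1 (D.δ_val χ h2), aOK_N hG D h2 h1⟩)
    (by rw [Multiset.card_map, card_val, card_erase_of_mem D.one_mem, D.card])
    (by rw [hsq']; omega)
  have hf : 1 + L.sum = ε * charDegree (μ 1 : G → ℂ) := by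
    rw [← D.deg_eq 1, ← add_sum_erase _ _ D.one_mem, D.δ_one, deg_irrOne, ← Multiset.sum_coe, hL']
    rfl
  refine ⟨L, hL', hf, ?_⟩
  obtain ⟨r, hr⟩ := h.exists_r
  simp only [trees, List.mem_flatMap, List.mem_filter, List.mem_map, List.mem_range,
    Bool.and_eq_true, decide_eq_true_eq]
  refine ⟨_, ⟨mem_dvs Nat.card_pos hn (index_dvd_card _), ?_, idxOK_index hG fun e => ?_⟩,
    Nat.card (autSub h.ord), ⟨by omega, ⟨e2, Nat.mod_eq_zero_of_dvd (card_autSub_dvd h.ord)⟩,
      Nat.mod_eq_zero_of_dvd ⟨Nat.card (Vc p x), by rw [hc]; ring⟩⟩, L, ?_, by rw [hv]⟩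
  · rw [hr, Nat.add_mul_mod_self_right, Nat.mod_eq_of_lt p2]
  · exact h.r_ne_zero hG (r := 0) (by rw [e, index_top]; simp) rfl
  rw [hv, hf]
  refine ⟨hL, ?_⟩
  simp only [fOK, Bool.and_eq_true, decide_eq_true_eq, natAbs_sign D.ε_val, ht, Bool.or_eq_true]
  refine ⟨⟨⟨degOK_deg hG (D.ne_one 1), aOK_exc hG D⟩, ?_⟩, ?_⟩
  · rw [← hL'] at hsq'
    have : sqs L = _ := hsq'
    omega
  by_cases hv1 : Nat.card (Vc p x) = 1
  swap
  · exact Or.inl hv1
  right
  have hs := h.sc (card_eq_one.1 hv1)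
  simp only [btOK, List.all_eq_true, Bool.or_eq_true, decide_eq_true_eq, List.any_eq_true,
    List.mem_sublists, List.mem_range, Bool.and_eq_true, ht]
  intro q hq
  by_cases hqp : q = p
  · exact Or.inl hqp
  right
  have : Fact q.Prime := ⟨(mem_prs hq).1⟩
  obtain ⟨M', hM'⟩ := exists_isPModular q this.out
  have : PMod q M' := ⟨hM'⟩
  obtain ⟨Q⟩ : Nonempty (Sylow q G) := inferInstance
  obtain ⟨k, k1, k2, k3⟩ := brauer_tuan hs D hqp M' Q
  have np : ∀ {χ : IrrCharacter G} {s : ℤ}, (s = 1 ∨ s = -1) → χ ≠ irrOne G → χ ∈ PB M' G →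
      (!isPw q (s * charDegree (χ : G → ℂ))) = true := fun hs h1 h2 => by
    simp only [isPw, natAbs_sign hs, Bool.not_eq_true', decide_eq_false_iff_not]
    exact fun e => not_PB_of_pow hG h1 (Nat.dvd_of_mod_eq_zero e) h2
  obtain ⟨S, hS⟩ := Quotient.exists_rep
    (((N.erase (irrOne G)).filter (· ∈ PB M' G)).val.map (fun χ => δ χ * charDegree (χ : G → ℂ)))
  have h1 : (S : Multiset ℤ) ≤ (L.filter fun a => !isPw q a : List ℤ) := by
    have : ((L.filter fun a => !isPw q a : List ℤ) : Multiset ℤ) =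
        (L : Multiset ℤ).filter fun a => (!isPw q a) = true := by simp
    rw [this, Multiset.le_filter, hL', show (S : Multiset ℤ) = _ from hS]
    refine ⟨Multiset.map_le_map (val_le_iff.2 (filter_subset _ _)), fun a ha => ?_⟩
    obtain ⟨χ, hχ, rfl⟩ := Multiset.mem_map.1 ha
    obtain ⟨h1, h2⟩ := mem_filter.1 hχ
    exact np (D.δ_val χ (mem_of_mem_erase h1)) (ne_of_mem_erase h1) h2
  obtain ⟨S', h2, h3⟩ := Multiset.coe_le.1 h1
  refine ⟨S', h3, k, by omega, k2.imp_right fun hj => ?_, Int.emod_eq_zero_of_dvd ?_⟩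
  · obtain ⟨j, hj⟩ := hj
    rw [← D.deg_exc_eq j]
    exact np D.ε_val (D.ne_one j) hj
  · rw [h2.sum_eq, ← Multiset.sum_coe, show (S : Multiset ℤ) = _ from hS]
    exact (Int.natCast_dvd_natCast.2 (gcd_dvd_sylow Q 13)).trans k3

theorem trees_ne_nil (hG : ¬ IsMulCommutative G) (hn : Nat.card G < 6400) {p : ℕ} (hp : p.Prime)
    (h1 : p ∣ Nat.card G) (h2 : ¬ p ^ 2 ∣ Nat.card G) : trees (Nat.card G) p ≠ [] := by
  classical
  have : Fact p.Prime := ⟨hp⟩
  obtain ⟨x, h⟩ := exists_syl1 h1 h2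
  obtain ⟨M, hM⟩ := exists_isPModular p hp
  have : PMod p M := ⟨hM⟩
  obtain ⟨N, δ, ε, μ, D⟩ := h.exists_D1 (M := M)
  obtain ⟨L, -, -, hL⟩ := tree_mem hG hn D
  exact List.ne_nil_of_mem hL

theorem not_card {n p : ℕ} (hn : n < 6400) (h0 : ¬ n.Prime) (hp : p.Prime) (h1 : p ∣ n)
    (h2 : ¬ p ^ 2 ∣ n) (h : trees n p = []) : Nat.card G ≠ n := by
  rintro rfl
  exact trees_ne_nil (not_comm_of_simple h0) hn hp h1 h2 h

end Cfsg.Agent.H9
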