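import Cfsg.Agent.H9.Sm4

/-! The simple group of order `168`. -/

set_option autoImplicit false
set_option linter.unusedVariables false
set_option linter.unusedSectionVars false

namespace Cfsg.Agent.H9

open Finset Subgroup Cfsg.Agent.PLoc Cfsg.Agent.Char Cfsg.Agent.Blk Cfsg.Agent.Inv

universe u

variable {G : Type u} [Group G] [Finite G]

theorem syl1_of_ord {p : ℕ} {x : G} (hx : orderOf x = p) (h2 : ¬ p ^ 2 ∣ Nat.card G) :
    Syl1 p x := by
  refine ⟨hx, fun e => h2 ?_⟩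
  rw [← (zpowers x).index_mul_card, Nat.card_zpowers, hx, sq]
  exact Nat.mul_dvd_mul_right e p

theorem sc_of_trees [IsSimpleGroup G] (hG : ¬ IsMulCommutative G) (hn : Nat.card G < 6400) {p : ℕ}
    [hp : Fact p.Prime] {x : G} (h : Syl1 p x) {e m : ℕ}
    (ht : ∀ T ∈ trees (Nat.card G) p, T.1 = 1 ∧ T.2.1 = e ∧ T.2.2.1 = m) :
    SC p x ∧ Nat.card (autSub h.ord) = e ∧ (Nx x).index = m := by
  classical
  obtain ⟨M, hM⟩ := exists_isPModular p hp.out
  have : PMod p M := ⟨hM⟩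
  obtain ⟨N, δ, ε, μ, D⟩ := h.exists_D1 (M := M)
  obtain ⟨L, -, -, hL⟩ := tree_mem hG hn D
  obtain ⟨h1, h2⟩ := ht _ hL
  exact ⟨h.sc (card_eq_one.1 h1), h2⟩

theorem ord_eq_of_sc {p : ℕ} [hp : Fact p.Prime] (h : ∀ x : G, orderOf x = p → SC p x) {g : G}
    (hg : p ∣ orderOf g) : orderOf g = p := by
  have h1 := h _ (orderOf_pow_orderOf_div (orderOf_pos g).ne' hg)
  have h2 : g ∈ zpowers (g ^ (orderOf g / p)) := h1.cent ▸ mem_centralizer_singleton_iff.2
    ((Commute.refl g).pow_right _)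
  exact Nat.dvd_antisymm (orderOf_dvd_of_pow_eq_one (h1.pow_p h2)) hg

theorem isP_cent_of_sc {l : ℕ} (hl : l.Prime)
    (h : ∀ x : G, orderOf x = l → SC l x) {t : G} (ht : t ≠ 1) (hpt : ¬ l ∣ orderOf t) :
    ¬ l ∣ Nat.card (centralizer ({t} : Set G)) := fun e => by
  have := Fact.mk hl
  obtain ⟨x, hx, ho⟩ := exists_mem_orderOf_eq_prime hl e
  have h1 : t ∈ zpowers x := (h x ho).cent ▸ mem_centralizer_singleton_iff.2
    (mem_centralizer_singleton_iff.1 hx).symm
  exact hpt (by rw [orderOf_eq_prime ((h x ho).pow_p h1) ht])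

theorem card_class {x : G} {P : G → Prop} (h : ∀ g, P g ↔ IsConj x g) {c k : ℕ}
    (hc : Nat.card (centralizer ({x} : Set G)) = c) (hk : Nat.card G = k * c) :
    Nat.card {g // P g} = k := by
  have h1 := card_isConj_mul_card_centralizer x
  rw [hc, hk] at h1
  rw [← Nat.eq_of_mul_eq_mul_right (hc ▸ Nat.card_pos) h1]
  exact Nat.card_congr (Equiv.subtypeEquivRight h)

theorem card_cj_eq {H K : Subgroup G} (g : G) (h : cj g H ≤ K) (hc : Nat.card K ≤ Nat.card H) :
    cj g H = K := eq_of_le_of_card_ge h (by rwa [card_cj])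

theorem cj_cent1 (g x : G) : cj g (centralizer {x}) = centralizer {g * x * g⁻¹} := by
  rw [← centralizer_zpowers, cj_centralizer, cj_zpowers, centralizer_zpowers]

namespace D8

variable {S : Subgroup G} {u : G}

theorem sq_mem_kf (h : D8 S u) {U : Subgroup G} (hU : IsKleinFour U) (hUS : U ≤ S) :
    u ^ 2 ∈ U ∧ ∃ w ∈ U, w ∉ zpowers u := by
  have hi := relIndex_ord4 h.card h.mem h.ord
  have k : ∀ a ∈ U, a ≠ 1 → a ∈ zpowers u → a = u ^ 2 := fun a ha a1 e =>
    eq_of_ord2 h.ord e (kf_ord hU ha a1)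
  obtain ⟨a, ha, a1, -⟩ := kf_exists_ne hU 1
  obtain ⟨b, hb, b1, ab⟩ := kf_exists_ne hU a
  by_cases h1 : a ∈ zpowers u <;> by_cases h2 : b ∈ zpowers u
  · exact absurd ((k b hb b1 h2).trans (k a ha a1 h1).symm) ab
  · exact ⟨k a ha a1 h1 ▸ ha, b, hb, h2⟩
  · exact ⟨k b hb b1 h2 ▸ hb, a, ha, h1⟩
  · exact ⟨k _ (mul_mem ha hb) (fun e => ab (mul_left_cancel (e.trans (kf_sq hU ha).symm)))
      (mul_mem_of_relIndex_two hi (hUS ha) (hUS hb) h1 h2) ▸ mul_mem ha hb, a, ha, h1⟩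

theorem kf (h : D8 S u) {w : G} (hw : w ∈ S) (h1 : w ∉ zpowers u) :
    IsKleinFour (zpowers (u ^ 2) ⊔ zpowers w : Subgroup G) :=
  kf_sup (ord_sq_of_ord4 h.ord) (h.out w hw h1) (fun e => h1 (e ▸ npow_mem_zpowers u 2))
    (h.comm_sq hw).symm

theorem kf_eq (h : D8 S u) {U : Subgroup G} (hU : IsKleinFour U) (hUS : U ≤ S) {w : G}
    (hw : w ∈ U) (h1 : w ∉ zpowers u) : U = zpowers (u ^ 2) ⊔ zpowers w :=
  kf_eq_sup hU (h.sq_mem_kf hU hUS).1 hw (ne_one_of_ord2 (ord_sq_of_ord4 h.ord))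
    (fun e => h1 (e ▸ one_mem _)) fun e => h1 (e ▸ npow_mem_zpowers u 2)

theorem le_norm_kf (h : D8 S u) {U : Subgroup G} (hU : IsKleinFour U) (hUS : U ≤ S) :
    S ≤ normalizer (U : Set G) :=
  (normal_subgroupOf_iff_le_normalizer hUS).1
    (normal_of_index_eq_two (relIndex_eq_two_of_card hUS (by rw [kf_card hU, h.card])))

theorem not_mem_kf (h : D8 S u) {U : Subgroup G} (hU : IsKleinFour U) : u ∉ U := fun e => by
  have := kf_ord hU e fun e => by simpa [e] using h.ord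
  rw [h.ord] at this; omega

theorem kf_two (h : D8 S u) : ∃ U V : Subgroup G, U ≠ V ∧
    ∀ W, (W ≤ S ∧ IsKleinFour W) ↔ (W = U ∨ W = V) := by
  obtain ⟨w, hw, h1⟩ := h.exists_out
  have h2 : w * u ∉ zpowers u := by rwa [mul_mem_cancel_right (mem_zpowers u)]
  have hw2 := mul_mem hw h.mem
  have le : ∀ v ∈ S, zpowers (u ^ 2) ⊔ zpowers v ≤ S := fun v hv =>
    sup_le (zpowers_le.2 (pow_mem h.mem 2)) (zpowers_le.2 hv)
  refine ⟨zpowers (u ^ 2) ⊔ zpowers w, zpowers (u ^ 2) ⊔ zpowers (w * u), fun e => ?_,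
    fun W => ⟨fun ⟨h3, h4⟩ => ?_, ?_⟩⟩
  · refine h.not_mem_kf (h.kf hw h1) ((mul_mem_cancel_left (mem_sup_right (mem_zpowers w))).1 ?_)
    rw [e]; exact mem_sup_right (mem_zpowers _)
  · obtain ⟨h5, v, hv, h6⟩ := h.sq_mem_kf h4 h3
    have h7 : w⁻¹ * v ∈ zpowers u := mul_mem_of_relIndex_two (relIndex_ord4 h.card h.mem h.ord)
      (inv_mem hw) (h3 hv) (by simpa using h1) h6
    rcases ord4_cases h.ord h7 with e | e | e | e <;> rw [inv_mul_eq_iff_eq_mul] at e
    · exact Or.inl (h.kf_eq h4 h3 (by simpa [e] using hv) h1)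
    · exact Or.inr (h.kf_eq h4 h3 (e ▸ hv) h2)
    · exact Or.inl (h.kf_eq h4 h3 ((mul_mem_cancel_right h5).1 (e ▸ hv)) h1)
    · refine Or.inr (h.kf_eq h4 h3 ?_ h2)
      rw [show w * u = w * u⁻¹ * u ^ 2 by group, ← e]
      exact mul_mem hv h5
  · rintro (rfl | rfl)
    · exact ⟨le w hw, h.kf hw h1⟩
    · exact ⟨le _ hw2, h.kf hw2 h2⟩

theorem norm_le_cent (h : D8 S u) : normalizer (S : Set G) ≤ centralizer {u ^ 2} := fun g hg => by
  have h1 := conj_mem_of_mem_normalizer hg h.mem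
  have h2 : orderOf (g * u * g⁻¹) = 4 := by rw [PLoc.orderOf_conj', h.ord]
  refine mem_centralizer_singleton_iff.2 (mul_inv_eq_iff_eq_mul.1 ?_)
  refine eq_of_ord2 h.ord ?_ (by rw [PLoc.orderOf_conj', ord_sq_of_ord4 h.ord])
  rw [← conj_pow]
  exact pow_mem (by_contra fun e => by have := h.out _ h1 e; omega) _

theorem eq_sq_of_central (h : D8 S u) {z : G} (hz : z ∈ S) (z1 : z ≠ 1)
    (hc : ∀ t ∈ S, t * z = z * t) : z = u ^ 2 := by
  obtain ⟨w, hw, h1⟩ := h.exists_out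
  have h2 : z ∈ zpowers u := by_contra fun e =>
    h.ne_inv ((mul_inv_eq_iff_eq_mul.2 (hc u h.mem).symm).symm.trans (h.conj_eq hz e))
  have h3 := mul_inv_eq_iff_eq_mul.2 (hc w hw)
  rcases ord4_cases h.ord h2 with e | e | e | e
  · exact absurd e z1
  · rw [e, h.conj_eq hw h1] at h3; exact absurd h3.symm h.ne_inv
  · exact e
  · rw [e, ← _root_.conj_inv, h.conj_eq hw h1, inv_inv] at h3; exact absurd h3 h.ne_inv

theorem dihedral (h : D8 S u) : Nonempty (S ≃* DihedralGroup 4) := by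
  have := Class.dihedral_of_index_two (G := S) (c := ⟨u, h.mem⟩) (by
    refine Eq.trans ?_ (relIndex_ord4 h.card h.mem h.ord)
    rw [relIndex]
    congr 1
    ext x
    simp [mem_subgroupOf, mem_zpowers_iff, Subtype.ext_iff]) fun s hs =>
      Subtype.ext (ord2_iff.1 (h.out s s.2 fun ⟨i, hi⟩ => hs ⟨i, Subtype.ext hi⟩)).1
  rwa [orderOf_mk, h.ord] at this

end D8

section

variable [IsSimpleGroup G] (h : Nat.card G = 168)
include h

theorem nc168 : ¬ IsMulCommutative G := not_comm_of_simple (by rw [h]; norm_num)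

theorem le_index168 {H : Subgroup G} (hH : H ≠ ⊤) : 7 ≤ H.index := by
  by_contra hc
  have := (two_mul_card_dvd_factorial (nc168 h) H hH).trans
    (Nat.factorial_dvd_factorial (show H.index ≤ 6 by omega))
  rw [h] at this
  exact absurd this (by decide)

theorem card_le168 {H : Subgroup G} (hH : H ≠ ⊤) : Nat.card H ≤ 24 := by
  have h1 := le_index168 h hH
  have h2 := H.index_mul_card
  nlinarith

theorem sc7 {x : G} (hx : orderOf x = 7) :
    SC 7 x ∧ Nat.card (autSub (hp := ⟨by norm_num⟩) hx) = 3 ∧ (Nx x).index = 8 :=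
  sc_of_trees (hp := ⟨by norm_num⟩) (nc168 h) (by omega) (syl1_of_ord hx (by rw [h]; norm_num))
    (by rw [h]; decide +kernel)

theorem sc3 {x : G} (hx : orderOf x = 3) :
    SC 3 x ∧ Nat.card (autSub (hp := ⟨by norm_num⟩) hx) = 2 ∧ (Nx x).index = 28 :=
  sc_of_trees (hp := ⟨by norm_num⟩) (nc168 h) (by omega) (syl1_of_ord hx (by rw [h]; norm_num))
    (by rw [h]; decide +kernel)

theorem card_syl168 (S : Sylow 2 G) : Nat.card S = 8 :=
  card_sylow_of_card S (k := 3) (m := 21) h (by norm_num)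

theorem d8_168 (S : Sylow 2 G) : ∃ u, D8 (S : Subgroup G) u := by
  refine exists_d8' (nc168 h) S (card_syl168 h S) fun e => ?_
  have h1 := card_le168 h (normalizer_sylow_ne_top (nc168 h) (by rw [h]; norm_num) S)
  have h2 := card_dvd_of_le (le_normalizer (H := (S : Subgroup G)))
  rw [card_syl168 h S] at h2
  have := Nat.card_pos (α := normalizer ((S : Subgroup G) : Set G))
  omega

theorem cent_card168 {t : G} (ht : t ≠ 1) {k : ℕ} (hk : orderOf t = 2 ^ k) :
    Nat.card (centralizer ({t} : Set G)) ∣ 8 := by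
  have h1 : ∀ l : ℕ, l.Prime → l ≠ 2 → ¬ l ∣ orderOf t := fun l hl l2 e =>
    l2 ((Nat.prime_dvd_prime_iff_eq hl Nat.prime_two).1 (hl.dvd_of_dvd_pow (hk ▸ e)))
  have h3 := isP_cent_of_sc Nat.prime_three (fun x hx => (sc3 h hx).1) ht
    (h1 3 Nat.prime_three (by norm_num))
  have h7 := isP_cent_of_sc (by norm_num) (fun x hx => (sc7 h hx).1) ht
    (h1 7 (by norm_num) (by norm_num))
  have h2 : Nat.card (centralizer ({t} : Set G)) ∣ 8 * 3 * 7 :=
    (card_subgroup_dvd_card _).trans (by rw [h])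
  exact ((Nat.prime_three.coprime_iff_not_dvd.2 h3).symm).dvd_of_dvd_mul_right
    ((((by norm_num : Nat.Prime 7).coprime_iff_not_dvd.2 h7).symm).dvd_of_dvd_mul_right h2)

theorem ord168 (g : G) :
    orderOf g = 1 ∨ orderOf g = 2 ∨ orderOf g = 3 ∨ orderOf g = 4 ∨ orderOf g = 7 := by
  by_cases h3 : 3 ∣ orderOf g
  · have := ord_eq_of_sc (hp := ⟨Nat.prime_three⟩) (fun x hx => (sc3 h hx).1) h3
    tauto
  by_cases h7 : 7 ∣ orderOf g
  · have := ord_eq_of_sc (hp := ⟨by norm_num⟩) (fun x hx => (sc7 h hx).1) h7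
    tauto
  have h2 : orderOf g ∣ 2 ^ 3 * 3 * 7 := (orderOf_dvd_natCard g).trans (by rw [h]; norm_num)
  obtain ⟨k, -, hk⟩ := (Nat.dvd_prime_pow Nat.prime_two).1
    (((Nat.prime_three.coprime_iff_not_dvd.2 h3).symm).dvd_of_dvd_mul_right
    ((((by norm_num : Nat.Prime 7).coprime_iff_not_dvd.2 h7).symm).dvd_of_dvd_mul_right h2))
  obtain ⟨S⟩ : Nonempty (Sylow 2 G) := inferInstance
  obtain ⟨u, hu⟩ := d8_168 h S
  obtain ⟨y, hy, h4, -⟩ := exists_isConj_mem_sylow S hk
  rw [← Inv.orderOf_isConj h4]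
  rcases hu.ord_cases hy with e | e | e | e <;> simp [e, hu.ord]

theorem eppo168 (H : Subgroup G) : Class.Eppo H := Class.eppo_of_dvd fun g => by
  rw [← orderOf_coe]
  rcases ord168 h g with e | e | e | e | e <;> rw [e]
  · exact ⟨2, 0, Nat.prime_two, by norm_num⟩
  · exact ⟨2, 1, Nat.prime_two, by norm_num⟩
  · exact ⟨3, 1, Nat.prime_three, by norm_num⟩
  · exact ⟨2, 2, Nat.prime_two, by norm_num⟩
  · exact ⟨7, 1, by norm_num, by norm_num⟩

theorem cent168 {S : Sylow 2 G} {u : G} (hu : D8 (S : Subgroup G) u) :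
    centralizer {u ^ 2} = (S : Subgroup G) := by
  have t2 := ord_sq_of_ord4 hu.ord
  refine (eq_of_le_of_card_ge hu.sylow_cent_sq.le ?_).symm
  rw [hu.card]
  exact Nat.le_of_dvd (by norm_num) (cent_card168 h (ne_one_of_ord2 t2) (k := 1) t2)

theorem norm168 (S : Sylow 2 G) : normalizer ((S : Subgroup G) : Set G) = S := by
  obtain ⟨u, hu⟩ := d8_168 h S
  exact le_antisymm (hu.norm_le_cent.trans (cent168 h hu).le) le_normalizer

theorem cent_inv168 {t : G} (ht : orderOf t = 2) : ∃ (S : Sylow 2 G) (u : G),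
    D8 (S : Subgroup G) u ∧ centralizer {t} = (S : Subgroup G) := by
  obtain ⟨S⟩ : Nonempty (Sylow 2 G) := inferInstance
  obtain ⟨u, hu⟩ := d8_168 h S
  obtain ⟨g, hg⟩ := isConj_iff.1 (hu.conj2 (nc168 h) ht).symm
  obtain ⟨v, hv⟩ := d8_168 h (g • S)
  refine ⟨_, v, hv, ?_⟩
  rw [← hg, ← cj_cent1, cent168 h hu]
  rfl

theorem card_norm_kf168 {U : Subgroup G} (hU : IsKleinFour U) :
    Nat.card (normalizer (U : Set G)) = 24 := by
  have k : ∀ a ∈ U, a ≠ 1 → ∃ (S : Sylow 2 G) (u : G), D8 (S : Subgroup G) u ∧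
      centralizer {a} = (S : Subgroup G) ∧ a = u ^ 2 ∧
      (S : Subgroup G) ≤ normalizer (U : Set G) := fun a ha a1 => by
    obtain ⟨S, u, hu, e⟩ := cent_inv168 h (kf_ord hU ha a1)
    have hUS : U ≤ S := fun x hx => e ▸ mem_centralizer_singleton_iff.2 (kf_comm hU hx ha)
    exact ⟨S, u, hu, e, hu.eq_sq_of_central (hUS ha) a1 fun t ht =>
      mem_centralizer_singleton_iff.1 (e.symm ▸ ht), hu.le_norm_kf hU hUS⟩
  obtain ⟨a, ha, a1, -⟩ := kf_exists_ne hU 1
  obtain ⟨b, hb, b1, ab⟩ := kf_exists_ne hU a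
  obtain ⟨S, u, hu, e1, e2, e3⟩ := k a ha a1
  obtain ⟨T, v, hv, f1, f2, f3⟩ := k b hb b1
  have h1 := card_le168 h (H := normalizer (U : Set G)) fun e => by
    rcases (normalizer_eq_top_iff.1 e).eq_bot_or_eq_top with e | e
    · exact a1 (mem_bot.1 (e ▸ ha))
    · have := kf_card hU
      rw [e, card_top] at this; omega
  have h2 := card_dvd_of_le e3
  have h3 : Nat.card (normalizer (U : Set G)) ∣ 168 := h ▸ card_subgroup_dvd_card _
  have h4 : Nat.card (normalizer (U : Set G)) ≠ 8 := fun e => by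
    have i1 := eq_of_le_of_card_ge e3 (by rw [e, hu.card])
    have i2 := eq_of_le_of_card_ge f3 (by rw [e, hv.card])
    refine ab ((hu.eq_sq_of_central (z := b) ?_ b1 fun t ht => ?_).trans e2.symm)
    · rw [i1, ← i2, ← f1]; exact mem_centralizer_singleton_iff.2 rfl
    · rw [i1, ← i2, ← f1] at ht; exact mem_centralizer_singleton_iff.1 ht
  rw [hu.card] at h2
  obtain ⟨c, hc⟩ := h2
  rw [hc] at h1 h3 h4 ⊢
  have : c ≤ 3 := by omega
  interval_cases c <;> simp_all

theorem kf_not_conj168 (S : Sylow 2 G) {U W : Subgroup G} (hUS : U ≤ S) (hWS : W ≤ S)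
    (hU : IsKleinFour U) (hW : IsKleinFour W) (g : G) (e : cj g U = W) : U = W := by
  obtain ⟨u, hu⟩ := d8_168 h S
  obtain ⟨n, hn, h1⟩ := (isSylowOf_sylow S (hu.le_norm_kf hW hWS)).exists_cj_le
    (isPGroup_cj g S.2) (by rw [← e, ← cj_normalizer]; exact cj_mono g (hu.le_norm_kf hU hUS))
  rw [← cj_mul] at h1
  have h2 := cj_eq_self_iff.1 (card_cj_eq _ h1 le_rfl)
  rw [norm168 h] at h2
  rw [← cj_eq_self_iff.2 (hu.le_norm_kf hU hUS h2), cj_mul, e, cj_eq_self_iff.2 hn]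

theorem coatom_of_card168 {H : Subgroup G} (hH : Nat.card H = 24 ∨ Nat.card H = 21) :
    IsCoatom H := by
  refine ⟨fun e => by rw [e, card_top] at hH; omega, fun K hK => by_contra fun e => ?_⟩
  have h1 := card_le168 h e
  have h2 := card_lt_of_lt hK
  have h3 := card_dvd_of_le hK.le
  rcases hH with e | e <;> rw [e] at h2 h3 <;> omega

theorem exists_kf_norm168 {M : Subgroup G} (h7 : ¬ 7 ∣ Nat.card M) :
    ∃ U : Subgroup G, IsKleinFour U ∧ M ≤ normalizer (U : Set G) := by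
  have : Fact (Nat.Prime 3) := ⟨Nat.prime_three⟩
  have k : ∀ S : Sylow 2 G, ∃ U : Subgroup G, IsKleinFour U ∧
      (S : Subgroup G) ≤ normalizer (U : Set G) := fun S => by
    obtain ⟨u, hu⟩ := d8_168 h S
    obtain ⟨U, V, -, h1⟩ := hu.kf_two
    have := (h1 U).2 (Or.inl rfl)
    exact ⟨U, this.2, hu.le_norm_kf this.2 this.1⟩
  by_cases hb : M = ⊥
  · obtain ⟨U, h1, -⟩ := k default
    exact ⟨U, h1, hb ▸ bot_le⟩
  have h1 : Nat.card M ∣ 2 ^ 3 * 3 ^ 1 :=
    (((by norm_num : Nat.Prime 7).coprime_iff_not_dvd.2 h7).symm).dvd_of_dvd_mul_right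
      ((card_subgroup_dvd_card M).trans (by rw [h]; norm_num))
  have := isSolvable_of_card_dvd_pow_mul_pow Nat.prime_two Nat.prime_three M h1
  have := (nontrivial_iff_ne_bot M).2 hb
  obtain ⟨A, p, ⟨h2, h3, -⟩, hp, ⟨h4, h5⟩, h6⟩ := Core.exists_minNormal_elementaryAbelian (G := M)
  have := Fact.mk hp
  have hA : M ≤ normalizer (A.map M.subtype : Set G) := by
    have := le_normalizer_map (H := A) M.subtype
    rwa [normalizer_eq_top, ← MonoidHom.range_eq_map, range_subtype] at this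
  have h8 : ∀ a ∈ A.map M.subtype, a ^ p = 1 := by
    rintro _ ⟨a, ha, rfl⟩
    exact congrArg Subtype.val (h5 a ha)
  have h9 := h6.map M.subtype
  have h10 : A.map M.subtype ≠ ⊥ := by rwa [Ne, map_eq_bot_iff_of_injective _ M.subtype_injective]
  have h11 : p ∣ 2 ^ 3 * 3 ^ 1 := (dvd_card_of_isPGroup h6 h3).trans ((card_subgroup_dvd_card A).trans h1)
  generalize A.map M.subtype = B at *
  obtain ⟨x, hx, ho⟩ := exists_mem_orderOf_eq_prime hp (dvd_card_of_isPGroup h9 h10)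
  rcases (Nat.Prime.dvd_mul hp).1 h11 with e | e
  · obtain rfl := (Nat.prime_dvd_prime_iff_eq hp Nat.prime_two).1 (hp.dvd_of_dvd_pow e)
    obtain ⟨S, hS⟩ := h9.exists_le_sylow
    obtain ⟨u, hu⟩ := d8_168 h S
    have i1 := card_dvd_of_le hS
    rw [hu.card, show 8 = 2 ^ 3 by norm_num, Nat.dvd_prime_pow hp] at i1
    obtain ⟨i, hi, i1⟩ := i1
    interval_cases i
    · exact absurd (card_eq_one.1 i1) h10
    · obtain ⟨T, v, hv, e⟩ := cent_inv168 h ho
      obtain ⟨U, h1, h2⟩ := k T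
      refine ⟨U, h1, hA.trans (le_trans ?_ h2)⟩
      rw [← eq_of_le_of_card_ge (zpowers_le.2 hx) (by rw [i1, Nat.card_zpowers, ho]; rfl), ← e]
      exact (Nx_of_ord2 ho).le
    · exact ⟨B, kf_of_card i1 fun y hy => by rw [← sq, h8 y hy], hA⟩
    · have := orderOf_dvd_of_pow_eq_one (h8 u (eq_of_le_of_card_ge hS (by
        rw [i1, hu.card]; rfl) ▸ hu.mem))
      rw [hu.ord] at this
      omega
  · obtain rfl := (Nat.prime_dvd_prime_iff_eq hp Nat.prime_three).1 (hp.dvd_of_dvd_pow e)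
    have i1 := syl1_of_ord ho (by rw [h]; norm_num)
    rw [i1.sylow.eq_of_le h9 le_top (zpowers_le.2 hx)] at hA
    obtain ⟨U, h1, -⟩ := k default
    have i2 := card_norm_kf168 h h1
    obtain ⟨y, hy, yo⟩ := exists_mem_orderOf_eq_prime (H := normalizer (U : Set G)) hp
      (by rw [i2]; norm_num)
    obtain ⟨g, -, hg⟩ := i1.sylow.exists_cj_le (isPGroup_zpowers (k := 1)
      (orderOf_dvd_iff_pow_eq_one.1 yo.dvd)) le_top
    replace hg := card_cj_eq g hg (by simp [ho, yo])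
    refine ⟨cj g U, kf_cj h1 g, hA.trans ?_⟩
    rw [← hg, ← cj_normalizer, ← cj_normalizer]
    refine cj_mono g ?_
    have j1 := (sc3 h yo).1.card_N
    rw [(sc3 h yo).2.1] at j1
    have j2 : Syl1 3 (⟨y, hy⟩ : normalizer (U : Set G)) :=
      syl1_of_ord (by rw [orderOf_mk, yo]) (by rw [i2]; norm_num)
    obtain ⟨r, hr⟩ := j2.exists_r
    have j3 : Nx (⟨y, hy⟩ : normalizer (U : Set G)) = (Nx y).subgroupOf _ := by
      rw [subgroupOf_normalizer_eq (zpowers_le.2 hy)]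
      refine congrArg normalizer (Set.ext fun x => ?_)
      simp [mem_subgroupOf, mem_zpowers_iff, Subtype.ext_iff]
    have j4 := (Nx (⟨y, hy⟩ : normalizer (U : Set G))).index_mul_card
    rw [hr, i2, j3, ← inf_subgroupOf_right, card_subgroupOf_of_le inf_le_right] at j4
    have j5 := card_dvd_of_le (inf_le_left : Nx y ⊓ normalizer (U : Set G) ≤ _)
    have j6 := card_dvd_of_le (le_inf le_normalizer (zpowers_le.2 hy) :
      zpowers y ≤ Nx y ⊓ normalizer (U : Set G))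
    rw [Nat.card_zpowers, yo] at j6
    refine inf_eq_left.1 (eq_of_le_of_card_ge inf_le_left ?_)
    rw [j1] at j5 ⊢
    generalize Nat.card (Nx y ⊓ normalizer (U : Set G) : Subgroup G) = c at *
    have := Nat.le_of_dvd (by norm_num) j5
    interval_cases c <;> omega

theorem conj2_168 {s t : G} (hs : orderOf s = 2) (ht : orderOf t = 2) : IsConj s t := by
  obtain ⟨u, hu⟩ := d8_168 h default
  exact (hu.conj2 (nc168 h) hs).trans (hu.conj2 (nc168 h) ht).symm

theorem conj4_168 {s t : G} (hs : orderOf s = 4) (ht : orderOf t = 4) : IsConj s t := by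
  obtain ⟨u, hu⟩ := d8_168 h default
  exact (hu.conj4 hs).trans (hu.conj4 ht).symm

theorem conj3_168 {s t : G} (hs : orderOf s = 3) (ht : orderOf t = 3) : IsConj s t := by
  have : Fact (Nat.Prime 3) := ⟨Nat.prime_three⟩
  obtain ⟨g, -, hg⟩ := (syl1_of_ord hs (by rw [h]; norm_num)).sylow.exists_cj_le
    (isPGroup_zpowers (k := 1) (orderOf_dvd_iff_pow_eq_one.1 ht.dvd)) le_top
  obtain ⟨i, hi⟩ := exists_pw hs (hg (conj_mem_cj.2 (mem_zpowers t)))
  have i0 : i ≠ 0 := by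
    rintro rfl
    have := PLoc.orderOf_conj' g t
    rw [← hi, pw_zero, orderOf_one] at this; omega
  have h1 : autSub hs = ⊤ := eq_top_of_card_eq _ (by rw [(sc3 h hs).2.1]; simp; rfl)
  have h2 : Units.mk0 i i0 ∈ autSub hs := h1 ▸ mem_top _
  exact IsConj.trans h2 (isConj_iff.2 ⟨g, hi.symm⟩).symm

theorem card2_168 : Nat.card {g : G // orderOf g = 2} = 21 := by
  obtain ⟨u, hu⟩ := d8_168 h default
  have t2 := ord_sq_of_ord4 hu.ord
  exact card_class (fun g => ⟨conj2_168 h t2, fun e => (Inv.orderOf_isConj e).symm.trans t2⟩)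
    (by rw [cent168 h hu, hu.card]) (by rw [h])

theorem card4_168 : Nat.card {g : G // orderOf g = 4} = 42 := by
  obtain ⟨u, hu⟩ := d8_168 h default
  refine card_class (c := 4) (fun g => ⟨conj4_168 h hu.ord,
    fun e => (Inv.orderOf_isConj e).symm.trans hu.ord⟩) ?_ (by rw [h])
  rw [hu.sylow_cent.eq_of_le (Q := centralizer {u}) ?_ le_rfl hu.sylow_cent.le, Nat.card_zpowers,
    hu.ord]
  exact IsPGroup.of_card_dvd_pow (n := 3)
    (cent_card168 h (fun e => by simpa [e] using hu.ord) (k := 2) hu.ord)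

theorem card3_168 : Nat.card {g : G // orderOf g = 3} = 56 := by
  have : Fact (Nat.Prime 3) := ⟨Nat.prime_three⟩
  obtain ⟨x, hx⟩ := exists_prime_orderOf_dvd_card' (G := G) 3 (by rw [h]; norm_num)
  exact card_class (fun g => ⟨conj3_168 h hx, fun e => (Inv.orderOf_isConj e).symm.trans hx⟩)
    (by rw [(sc3 h hx).1.cent, Nat.card_zpowers, hx]) (by rw [h])

theorem card7_168 : Nat.card {g : G // orderOf g = 7} = 48 := by
  classical
  have := Fintype.ofFinite G
  have h1 := card_eq_sum_card_fiberwise (f := orderOf) (s := (univ : Finset G))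
    (t := {1, 2, 3, 4, 7}) fun g _ => by simpa using ord168 h g
  have h2 : ∀ k, (univ.filter fun g : G => orderOf g = k).card = Nat.card {g : G // orderOf g = k} :=
    fun k => by rw [Nat.card_eq_fintype_card, Fintype.card_subtype]
  simp only [h2, card_univ, ← Nat.card_eq_fintype_card, h] at h1
  rw [sum_insert (by decide), sum_insert (by decide), sum_insert (by decide), sum_pair (by decide),
    card2_168 h, card3_168 h, card4_168 h] at h1
  simp only [orderOf_eq_one_iff, Nat.card_unique] at h1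
  omega

theorem normS4_168 {U : Subgroup G} (hU : IsKleinFour U) :
    Nonempty (normalizer (U : Set G) ≃* Equiv.Perm (Fin 4)) :=
  (eppo168 h _).equiv_S4 (card_norm_kf168 h hU)

theorem coatom168 {M : Subgroup G} (hM : IsCoatom M) :
    (∃ U : Subgroup G, IsKleinFour U ∧ M = normalizer (U : Set G)) ∨
      ∃ x, orderOf x = 7 ∧ M = Nx x := by
  have : Fact (Nat.Prime 7) := ⟨by norm_num⟩
  have k : ∀ K : Subgroup G, M ≤ K → K.index ≠ 1 → M = K := fun K h1 h2 =>
    (hM.le_iff.1 h1).resolve_left (by rwa [← index_eq_one]) |>.symm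
  by_cases h7 : 7 ∣ Nat.card M
  · obtain ⟨x, hx, ho⟩ := exists_mem_orderOf_eq_prime this.out h7
    refine Or.inr ⟨x, ho, k _ ?_ (by rw [(sc7 h ho).2.2]; norm_num)⟩
    have h1 := card_le168 h hM.1
    have j2 : Syl1 7 (⟨x, hx⟩ : M) := syl1_of_ord (by rw [orderOf_mk, ho]) fun e => by
      have := Nat.le_of_dvd Nat.card_pos e; omega
    obtain ⟨r, hr⟩ := j2.exists_r
    have j3 : Nx (⟨x, hx⟩ : M) = (Nx x).subgroupOf _ := by
      rw [subgroupOf_normalizer_eq (zpowers_le.2 hx)]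
      refine congrArg normalizer (Set.ext fun x => ?_)
      simp [mem_subgroupOf, mem_zpowers_iff, Subtype.ext_iff]
    have j4 := (Nx (⟨x, hx⟩ : M)).index_mul_card
    have j5 := card_le_of_le (le_normalizer (H := zpowers (⟨x, hx⟩ : M)))
    rw [Nat.card_zpowers, j2.ord] at j5
    obtain rfl : r = 0 := by
      by_contra e
      have : 1 ≤ r := by omega
      rw [hr] at j4
      have : 8 * 7 ≤ (1 + r * 7) * Nat.card (Nx (⟨x, hx⟩ : M)) := Nat.mul_le_mul (by omega) j5
      omega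
    rwa [zero_mul, add_zero, index_eq_one, j3, subgroupOf_eq_top] at hr
  · obtain ⟨U, h1, h2⟩ := exists_kf_norm168 h h7
    refine Or.inl ⟨U, h1, k _ h2 fun e => ?_⟩
    have := card_norm_kf168 h h1
    rw [index_eq_one.1 e, card_top] at this
    omega

theorem eq_of_norm_eq168 {U W : Subgroup G} (hU : IsKleinFour U) (hW : IsKleinFour W)
    (e : normalizer (U : Set G) = normalizer (W : Set G)) : U = W := by
  by_contra hc
  have h1 : IsPGroup 2 (U ⊔ W : Subgroup G) :=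
    (kf_isPGroup hU).to_sup_of_normal_right' (kf_isPGroup hW) (e ▸ le_normalizer)
  obtain ⟨S, hS⟩ := h1.exists_le_sylow
  obtain ⟨u, hu⟩ := d8_168 h S
  have h2 : U < U ⊔ W := left_lt_sup.2 fun e => hc (eq_of_le_of_card_ge e (by
    rw [kf_card hU, kf_card hW])).symm
  have h3 := card_lt_of_lt h2
  have h4 := card_dvd_of_le h2.le
  have h5 := card_le_of_le hS
  rw [kf_card hU] at h3 h4
  have h6 := card_le_of_le ((le_inf (le_refl (normalizer (U : Set G))) e.le).trans
    (normalizer_inf_normalizer_le_normalizer_sup U W))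
  rw [eq_of_le_of_card_ge hS (by rw [hu.card] at h5 ⊢; omega), norm168 h, card_norm_kf168 h hU,
    hu.card] at h6
  omega

end

end Cfsg.Agent.H9
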