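import Mathlib
import Cfsg.Prelude.Def_SporadicB
/-! Elementary facts on sets of 3-transpositions. -/
set_option autoImplicit false
namespace Cfsg.Agent.H9
open Cfsg

variable {G : Type*} [Group G] {E : Set G} {a b c d e : G}

theorem tt_sq (hE : IsThreeTranspositionSet E) (ha : a ∈ E) : a * a = 1 := by
  have := pow_orderOf_eq_one a
  rwa [hE.1 a ha, sq] at this

theorem tt_ne_one (hE : IsThreeTranspositionSet E) (ha : a ∈ E) : a ≠ 1 := by
  rintro rfl
  simpa using hE.1 1 ha

theorem tt_inv (hE : IsThreeTranspositionSet E) (ha : a ∈ E) : a⁻¹ = a :=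
  inv_eq_of_mul_eq_one_right (tt_sq hE ha)

theorem tt_cancel (hE : IsThreeTranspositionSet E) (ha : a ∈ E) (x : G) : a * (a * x) = x := by
  rw [← mul_assoc, tt_sq hE ha, one_mul]

/-- non-commuting 3-transpositions satisfy the braid relation -/
theorem tt_braid (hE : IsThreeTranspositionSet E) (ha : a ∈ E) (hb : b ∈ E) (h : ¬ Commute a b) :
    a * b * a = b * a * b := by
  have h1 := tt_sq hE ha
  have h2 := tt_sq hE hb
  rcases hE.2 a ha b hb with h3 | h3
  · exfalso; apply h
    calc a * b = (a * b)⁻¹ := (inv_eq_of_mul_eq_one_right (by rw [← sq, h3])).symm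
      _ = b * a := by rw [mul_inv_rev, tt_inv hE ha, tt_inv hE hb]
  · have : a * b * a * (b * a * b) = 1 := by rw [← h3]; simp [pow_succ, mul_assoc]
    rw [eq_inv_of_mul_eq_one_left this]
    simp [tt_inv hE ha, tt_inv hE hb, mul_assoc]

theorem tt_braid' (hE : IsThreeTranspositionSet E) (ha : a ∈ E) (hb : b ∈ E) (h : ¬ Commute a b) (x : G) :
    a * (b * (a * x)) = b * (a * (b * x)) := by
  simp only [← mul_assoc]; rw [tt_braid hE ha hb h]

/-- S0436 -/
theorem tt_comm_mul (hE : IsThreeTranspositionSet E) (ha : a ∈ E) (hb : b ∈ E) (he : e ∈ E)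
    (hab : a ≠ b) (hcomm : Commute a b) (h : Commute e (a * b)) : Commute e a ∧ Commute e b := by
  have key : Commute e a := by
    by_contra hea
    have heb : ¬ Commute e b := fun h2 => hea (by
      have := h.mul_right h2
      rwa [mul_assoc, tt_sq hE hb, mul_one] at this)
    -- a e a = b e b, hence e a e = e b e
    have h1 : a * e * a = b * e * b := by
      calc a * e * a = a * (e * (a * b)) * b := by simp [mul_assoc, tt_sq hE hb]
        _ = b * e * b := by rw [h.eq]; simp [mul_assoc, tt_cancel hE ha]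
    rw [← tt_braid hE he ha hea, ← tt_braid hE he hb heb] at h1
    exact hab (by simpa using h1)
  refine ⟨key, ?_⟩
  have := key.mul_right h
  rwa [tt_cancel hE ha] at this

end Cfsg.Agent.H9
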